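import Groth.Agent.Sga2lef.H83.Alg
import Groth.Agent.PerfC.PullRestrict
import Mathlib.CategoryTheory.Functor.OfSequence

/-!
# Change of the ideal of definition for systems of modules

`G` is a system for `𝓘`, `𝓘 ^ (b + 1) ≤ 𝓙 ≤ 𝓘`.

* `G' 𝓙 G b n`: the quotient of `G ((b + 1) (n + 1) - 1)` by `𝓙 ^ (n + 1)`, with its transition maps `π'`.
* `exists_back`: a module with quotients `G' n` has quotients `G n`.
-/

set_option autoImplicit false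
universe u

open CategoryTheory CategoryTheory.Limits AlgebraicGeometry Opposite TopologicalSpace

namespace K575.Chg

open Groth.Agent Groth.Agent.FormalB.KQuot Groth.Agent.FormalB.TrKQuot Groth.Agent.Sga2lef.H83.Frame
  Groth.Agent.Sga2lef.H83.Sys Groth.Agent.Sga2lef.H83.BSys

variable {X : Scheme.{u}} {𝓘 𝓙 : X.IdealSheafData} {G : ℕ → X.Modules} (π : ∀ n, G (n + 1) ⟶ G n)

/-- The iterated transition maps. -/
noncomputable def T {a b : ℕ} (h : b ≤ a) : G a ⟶ G b := (Functor.ofOpSequence π).map (homOfLE h).op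

theorem T_comp {a b c : ℕ} (h : b ≤ a) (h' : c ≤ b) : T π h ≫ T π h' = T π (h'.trans h) :=
  ((Functor.ofOpSequence π).map_comp (homOfLE h).op (homOfLE h').op).symm

theorem T_succ (n : ℕ) : T π (Nat.le_succ n) = π n := Functor.ofOpSequence_map_homOfLE_succ π n

theorem T_self (n : ℕ) : T π (le_refl n) = 𝟙 (G n) := by
  rw [T]
  exact CategoryTheory.Functor.map_id _ _

theorem pow_anti (𝓘 : X.IdealSheafData) {m n : ℕ} (h : m ≤ n) : 𝓘 ^ n ≤ 𝓘 ^ m :=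
  pow_le_pow_right_of_le_one' le_top h

theorem pow_mono {𝓘 𝓙 : X.IdealSheafData} (h : 𝓘 ≤ 𝓙) (n : ℕ) : 𝓘 ^ n ≤ 𝓙 ^ n := pow_le_pow_left' h n

variable {π}

theorem isKQuot_T (kq : ∀ n, IsKQuot (𝓘 ^ (n + 1)) (π n)) {a b : ℕ} (h : b ≤ a) :
    IsKQuot (𝓘 ^ (b + 1)) (T π h) := by
  induction a, h using Nat.le_induction with
  | base =>
    rw [T_self]
    exact IsKQuot.id (kq b).killed
  | succ a h ih =>
    rw [← T_comp π (Nat.le_succ a) h, T_succ]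
    exact Sga2lef.H83.Sys.IsKQuot.comp (pow_anti 𝓘 (by omega)) (kq a) ih

/-- The level. -/
def lvl (b n : ℕ) : ℕ := b * (n + 1) + n

theorem lvl_succ (b n : ℕ) : lvl b n + 1 = (b + 1) * (n + 1) := by
  rw [lvl]
  ring

theorem le_lvl (b n : ℕ) : n ≤ lvl b n := Nat.le_add_left _ _

theorem lvl_mono (b n : ℕ) : lvl b n ≤ lvl b (n + 1) := by
  rw [lvl, lvl]
  have : b * (n + 1) ≤ b * (n + 1 + 1) := Nat.mul_le_mul_left _ (by omega)
  omega

theorem pow_lvl {b : ℕ} (hb : 𝓘 ^ (b + 1) ≤ 𝓙) (n : ℕ) : 𝓘 ^ (lvl b n + 1) ≤ 𝓙 ^ (n + 1) := by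
  rw [lvl_succ, pow_mul]
  exact pow_mono hb _

section

variable (𝓙 G) (b : ℕ)

/-- The new system. -/
noncomputable def G' (n : ℕ) : X.Modules := kq (𝓙 ^ (n + 1)) (G (lvl b n))

/-- The quotient maps. -/
noncomputable def κ (n : ℕ) : G (lvl b n) ⟶ G' 𝓙 G b n := kπ (𝓙 ^ (n + 1)) (G (lvl b n))

theorem killed_G' (n : ℕ) : ClSub.KilledByIdeal (𝓙 ^ (n + 1)) (G' 𝓙 G b n) := killed_pushforward _ _

end

variable {b : ℕ} (coh : ∀ n, Coh.IsCoh (G n))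

include coh in
theorem isKQuot_κ (n : ℕ) : IsKQuot (𝓙 ^ (n + 1)) (κ 𝓙 G b n) := isKQuot_kπ _ (coh _).1

include coh in
theorem isCoh_G' (n : ℕ) : Coh.IsCoh (G' 𝓙 G b n) := isCoh_kq _ (coh _)

theorem exists_π' (π : ∀ n, G (n + 1) ⟶ G n) (coh : ∀ n, Coh.IsCoh (G n)) (𝓙 : X.IdealSheafData) (b n : ℕ) :
    ∃ p : G' 𝓙 G b (n + 1) ⟶ G' 𝓙 G b n, κ 𝓙 G b (n + 1) ≫ p = T π (lvl_mono b n) ≫ κ 𝓙 G b n :=
  (isKQuot_κ coh (n + 1)).desc _ (killedByIdeal_of_le (pow_anti 𝓙 (by omega)) (killed_G' 𝓙 G b n))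

/-- The transition maps of the new system. -/
noncomputable def π' (π : ∀ n, G (n + 1) ⟶ G n) (coh : ∀ n, Coh.IsCoh (G n)) (𝓙 : X.IdealSheafData) (b n : ℕ) :
    G' 𝓙 G b (n + 1) ⟶ G' 𝓙 G b n := (exists_π' π coh 𝓙 b n).choose

theorem κ_π' (n : ℕ) : κ 𝓙 G b (n + 1) ≫ π' π coh 𝓙 b n = T π (lvl_mono b n) ≫ κ 𝓙 G b n :=
  (exists_π' π coh 𝓙 b n).choose_spec

theorem isKQuot_π' (kq : ∀ n, IsKQuot (𝓘 ^ (n + 1)) (π n)) (hb : 𝓘 ^ (b + 1) ≤ 𝓙) (n : ℕ) :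
    IsKQuot (𝓙 ^ (n + 1)) (π' π coh 𝓙 b n) :=
  isKQuot_of_comp (κ_π' coh n) (isKQuot_κ coh (n + 1))
    (Sga2lef.H83.Sys.IsKQuot.comp (pow_lvl hb n) (isKQuot_T kq (lvl_mono b n)) (isKQuot_κ coh n))

/-- The restriction of a quotient to a smaller closed subscheme is locally free. -/
theorem isFinLocFree_pullback_kq {K K' : X.IdealSheafData} (h : K ≤ K') {M : X.Modules}
    (hM : FlatMod.IsFinLocFree ((Scheme.Modules.pullback K.subschemeι).obj M)) :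
    FlatMod.IsFinLocFree ((Scheme.Modules.pullback K'.subschemeι).obj (kq K' M)) := by
  have h1 := isIso_pullback_kπ K' M
  have e1 : (Scheme.Modules.pullback K'.subschemeι).obj M ≅ (Scheme.Modules.pullback K'.subschemeι).obj (kq K' M) :=
    @asIso _ _ _ _ ((Scheme.Modules.pullback K'.subschemeι).map (kπ K' M)) h1
  have e2 : (Scheme.Modules.pullback (Scheme.IdealSheafData.inclusion h)).obj
      ((Scheme.Modules.pullback K.subschemeι).obj M) ≅ (Scheme.Modules.pullback K'.subschemeι).obj M :=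
    (Scheme.Modules.pullbackComp (Scheme.IdealSheafData.inclusion h) K.subschemeι).app M ≪≫
      (Scheme.Modules.pullbackCongr (Scheme.IdealSheafData.inclusion_subschemeι h)).app M
  exact Dcoh.FinLocFree.isFinLocFree_of_iso (e2 ≪≫ e1)
    (PerfC.PullRestrict.isFinLocFree_pullback (Scheme.IdealSheafData.inclusion h) hM)

/-- Going back: a module with quotients `G' n` has the quotients `G n`. -/
theorem exists_back (kq : ∀ n, IsKQuot (𝓘 ^ (n + 1)) (π n)) (hJ : 𝓙 ≤ 𝓘) {F : X.Modules}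
    (p : ∀ n, F ⟶ G' 𝓙 G b n) (hp : ∀ n, p (n + 1) ≫ π' π coh 𝓙 b n = p n)
    (hq : ∀ n, IsKQuot (𝓙 ^ (n + 1)) (p n)) :
    ∃ q : ∀ n, F ⟶ G n, (∀ n, q (n + 1) ≫ π n = q n) ∧ ∀ n, IsKQuot (𝓘 ^ (n + 1)) (q n) := by
  choose ρ hρ using fun n => (isKQuot_κ (𝓙 := 𝓙) (b := b) coh n).desc (T π (le_lvl b n))
    (killedByIdeal_of_le (pow_mono hJ (n + 1)) (kq n).killed)
  have h1 : ∀ n, IsKQuot (𝓘 ^ (n + 1)) (ρ n) := fun n =>
    isKQuot_of_comp (hρ n) (isKQuot_κ coh n) (isKQuot_T kq (le_lvl b n))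
  refine ⟨fun n => p n ≫ ρ n, fun n => ?_, fun n =>
    Sga2lef.H83.Sys.IsKQuot.comp (pow_mono hJ (n + 1)) (hq n) (h1 n)⟩
  change (p (n + 1) ≫ ρ (n + 1)) ≫ π n = p n ≫ ρ n
  rw [← hp n, Category.assoc, Category.assoc]
  congr 1
  have := (isKQuot_κ (𝓙 := 𝓙) (b := b) coh (n + 1)).epi
  rw [← cancel_epi (κ 𝓙 G b (n + 1)), ← Category.assoc, ← Category.assoc, hρ, κ_π', Category.assoc, hρ,
    ← T_succ π n, T_comp, T_comp]

end K575.Chg
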