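import Groth.Agent.LefX.K575.QFrame
import Groth.Agent.Sga2lef.H83.Alg
import Groth.Agent.Lef.K183.ComplHom
import Groth.Agent.Sga2.LefAmple389

/-!
# From `Hom(D, O) = lim Hom(D, O/𝓘^(n+1))` to the targets `(P^a)^s`

* `isKQuot_Tpow`: twisting by a line bundle preserves quotients by an ideal.
* `exists_hom`: compatible families `D' ⟶ D / 𝓘^(n+1) D`, `D ⊗ L^a ≅ O^s`, come from `D' ⟶ D`.
-/

set_option autoImplicit false
universe u

open CategoryTheory CategoryTheory.Limits AlgebraicGeometry Opposite TopologicalSpace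

attribute [local instance] CategoryTheory.Abelian.hasFiniteBiproducts

namespace K575.HomLef

open Groth.Agent Groth.Agent.Fdesc.LocGen Groth.Agent.Dix.IdealModCartier Groth.Agent.PerfB.TensExact
  Groth.Agent.FormalB.KQuot Groth.Agent.FormalB.TrKQuot Groth.Agent.Sga2lef.H83.Frame
  Groth.Agent.Sga2lef.H83.Sys Groth.Agent.Sga2lef.H83.Twist Groth.Agent.Sga2lef.H83.BSys
  Groth.Agent.Sga2lef.H96.ModSysPush K575.QFrame

variable {X : Scheme.{u}}

theorem isKQuot_toSubscheme (K : X.IdealSheafData) : IsKQuot K (ClSub.toSubscheme K) := by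
  have h := isKQuot_of_isIso K (Groth.Agent.Ega2.QCohLocal.isQCoh_structureModule X)
    (Groth.Agent.Fga.UnitRestrict.pullbackUnitHom K.subschemeι)
  rw [K183.ComplHom.homEquiv_pullbackUnitHom] at h
  exact h

variable {L : X.Modules} {r : ℕ} {𝓙 : X.IdealSheafData} {σ : Fin r → (Coh.structureModule X ⟶ L)}
  (hσ : HasMFrame 𝓙 σ) {K : X.IdealSheafData}
include hσ

theorem killed_T {M : X.Modules} (h : ClSub.KilledByIdeal K M) :
    ClSub.KilledByIdeal K ((DCoh.tensorRightMod L).obj M) := by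
  refine killedByIdeal_iff.2 fun V a ha m => ?_
  refine QFrame.eq_zero_of_frame hσ _ fun W hW e f hf => ?_
  rw [res_smul]
  obtain ⟨g, hg⟩ := hf.exists_eq_tmul (res _ hW m)
  rw [hg]
  have h1 : ores hW a ∈ K.ideal W := K.ideal_le_comap_ideal (U := W) (V := V) hW ha
  refine (smul_tmul (ores hW a) g e).symm.trans ?_
  exact (congrArg (fun t => tmul t e) (h W _ h1 g)).trans (Ega2.TensGen.zero_tmul e)

theorem killed_of_T {M : X.Modules} (h : ClSub.KilledByIdeal K ((DCoh.tensorRightMod L).obj M)) :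
    ClSub.KilledByIdeal K M := by
  refine killedByIdeal_iff.2 fun V a ha m => ?_
  refine QFrame.eq_zero_of_frame hσ _ fun W hW e f hf => ?_
  rw [res_smul]
  have h1 : ores hW a ∈ K.ideal W := K.ideal_le_comap_ideal (U := W) (V := V) hW ha
  have h2 : ores hW a • (tmul (res M hW m) e : Γ((DCoh.tensorRightMod L).obj M, W.1)) = 0 := h W _ h1 _
  exact Ega2.TensGen.tmul_gen_eq_zero hf.gen ((smul_tmul (ores hW a) (res M hW m) e).trans h2)

theorem killed_Tpow (a : ℕ) : ∀ {M : X.Modules} (_ : ClSub.KilledByIdeal K M),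
    ClSub.KilledByIdeal K ((Tpow L a).obj M) := by
  induction a with
  | zero => exact fun h => h
  | succ a ih => exact fun h => ih (killed_T hσ h)

theorem killed_of_Tpow (a : ℕ) : ∀ {M : X.Modules} (_ : ClSub.KilledByIdeal K ((Tpow L a).obj M)),
    ClSub.KilledByIdeal K M := by
  induction a with
  | zero => exact fun h => h
  | succ a ih => exact fun h => killed_of_T hσ (ih h)

theorem isKQuot_Tpow {P : X.Modules} (hLP : ClSub.IsInverseOf L P) (a : ℕ) {M N : X.Modules} {p : M ⟶ N}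
    (hp : IsKQuot K p) : IsKQuot K ((Tpow L a).map p) := by
  have := Sga2lef.H83.Pres.isEquivalence_Tpow hLP a
  have := hp.epi
  refine ⟨inferInstance, killed_Tpow hσ a hp.killed, fun {Z} φ hZ => ?_⟩
  let e := (Tpow L a).objObjPreimageIso Z
  have h1 : ClSub.KilledByIdeal K ((Tpow L a).objPreimage Z) :=
    killed_of_Tpow hσ a (killedByIdeal_of_iso e.symm hZ)
  obtain ⟨ψ, hψ⟩ := hp.desc ((Tpow L a).preimage (φ ≫ e.inv)) h1
  refine ⟨(Tpow L a).map ψ ≫ e.hom, ?_⟩
  rw [← Category.assoc, ← Functor.map_comp, hψ, Functor.map_preimage, Category.assoc, e.inv_hom_id,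
    Category.comp_id]

theorem exists_hom {P : X.Modules} (hLP : ClSub.IsInverseOf L P)
    (hH : ∀ D : X.Modules, Coh.IsCoh D → Lef.HomToFormalBijective 𝓙 D) {D : X.Modules} (hD : Coh.IsCoh D) (a s : ℕ)
    (e : (Tpow L a).obj D ≅ FlatMod.freeMod X s) {D' : X.Modules} (hD' : Coh.IsCoh D')
    (χ : ∀ n, D' ⟶ Bn 𝓙 D n) (hχ : ∀ n, χ (n + 1) ≫ πB 𝓙 hD n = χ n) :
    ∃ f : D' ⟶ D, ∀ n, f ≫ pB 𝓙 D n = χ n := by
  have := Sga2lef.H83.Pres.isEquivalence_Tpow hLP a
  have hLi := (Dix.IdealModCartier.isInvertible_of_isInverseOf hLP).1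
  have := (preservesLim hLi a).2.2
  let A : Fin s → X.Modules := fun _ => Coh.structureModule X
  let E : (Tpow L a).obj D ≅ ⨁ A := e ≪≫ (biproduct.isoCoproduct A).symm
  have hκ : ∀ n, IsKQuot (𝓙 ^ (n + 1)) ((Tpow L a).map (pB 𝓙 D n)) := fun n =>
    isKQuot_Tpow hσ hLP a (isKQuot_pB 𝓙 hD n)
  choose c hc using fun n (j : Fin s) => (hκ n).desc (E.hom ≫ biproduct.π A j ≫ ClSub.toSubscheme (𝓙 ^ (n + 1)))
    (isKQuot_toSubscheme _).killed
  choose d hd using fun n (j : Fin s) => (isKQuot_toSubscheme (𝓙 ^ (n + 1))).desc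
    (biproduct.ι A j ≫ E.inv ≫ (Tpow L a).map (pB 𝓙 D n)) (hκ n).killed
  have hcd : ∀ n, ∑ j, c n j ≫ d n j = 𝟙 _ := by
    intro n
    have := (hκ n).epi
    rw [← cancel_epi ((Tpow L a).map (pB 𝓙 D n)), Preadditive.comp_sum]
    have h1 : ∀ j, (Tpow L a).map (pB 𝓙 D n) ≫ c n j ≫ d n j =
        E.hom ≫ (biproduct.π A j ≫ biproduct.ι A j) ≫ E.inv ≫ (Tpow L a).map (pB 𝓙 D n) := by
      intro j
      rw [← Category.assoc, hc, Category.assoc, Category.assoc, hd, Category.assoc]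
    rw [Finset.sum_congr rfl fun j _ => h1 j, ← Preadditive.comp_sum, ← Preadditive.sum_comp, biproduct.total,
      Category.id_comp, E.hom_inv_id_assoc, Category.comp_id]
  have hcq : ∀ n j, c (n + 1) j ≫ Lef.quotMap (Lef.pow_succ_le 𝓙 n) = (Tpow L a).map (πB 𝓙 hD n) ≫ c n j := by
    intro n j
    have := (hκ (n + 1)).epi
    rw [← cancel_epi ((Tpow L a).map (pB 𝓙 D (n + 1))), ← Category.assoc, hc, Category.assoc, Category.assoc,
      Sga2.LefRes389.toSubscheme_quotMap, ← Category.assoc ((Tpow L a).map (pB 𝓙 D (n + 1))), ← Functor.map_comp,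
      pB_πB, hc]
  have hDT := isCoh_Tpow hLi a hD'
  choose φ hφ using fun j : Fin s => (hH _ hDT).2 (fun n => (Tpow L a).map (χ n) ≫ c n j) (fun n => by
    rw [Category.assoc, hcq, ← Category.assoc, ← Functor.map_comp, hχ])
  refine ⟨(Tpow L a).preimage (biproduct.lift φ ≫ E.inv), fun n => ?_⟩
  apply (Tpow L a).map_injective
  rw [Functor.map_comp, Functor.map_preimage, Category.assoc]
  have h2 : ∀ j, (biproduct.lift φ ≫ E.inv ≫ (Tpow L a).map (pB 𝓙 D n)) ≫ c n j = (Tpow L a).map (χ n) ≫ c n j := by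
    intro j
    rw [Category.assoc, Category.assoc, hc, E.inv_hom_id_assoc, biproduct.lift_π_assoc, hφ]
  have h3 : ∀ g : (Tpow L a).obj D' ⟶ (Tpow L a).obj (Bn 𝓙 D n), g = ∑ j, (g ≫ c n j) ≫ d n j := by
    intro g
    conv_lhs => rw [← Category.comp_id g, ← hcd n, Preadditive.comp_sum]
    exact Finset.sum_congr rfl fun j _ => (Category.assoc _ _ _).symm
  rw [h3 (biproduct.lift φ ≫ E.inv ≫ (Tpow L a).map (pB 𝓙 D n)), h3 ((Tpow L a).map (χ n))]
  exact Finset.sum_congr rfl fun j _ => by rw [h2]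

end K575.HomLef
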