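import Groth.Agent.LefX.K575.QKer
import Groth.Agent.Sga2lef.H83.BSys
import Groth.Agent.Sga2lef.H78.DualBasis
import Groth.Agent.PerfC.PullRestrict

/-!
# Levelwise finite locally free systems are quasi-regular systems
-/

set_option autoImplicit false
universe u

open CategoryTheory CategoryTheory.Limits AlgebraicGeometry Opposite TopologicalSpace

namespace K575.QOf

open Groth.Agent Groth.Agent.Fdesc.LocGen Groth.Agent.FormalB.KQuot Groth.Agent.FormalB.TrKQuot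
  Groth.Agent.Sga2lef.H83.Frame Groth.Agent.Sga2lef.H83.Sys Groth.Agent.Sga2lef.H83.BSys
  K575.Mon K575.QFrame K575.QSys

variable {X : Scheme.{u}} {𝓘 : X.IdealSheafData} {L : X.Modules} {r : ℕ}
  {σ : Fin r → (Coh.structureModule X ⟶ L)}

/-- In a module locally free over `O/𝓘^(n+1)` a relation between the monomials of degree `n` has coefficients in
`𝓘`. -/
theorem mem_of_sum_eq_zero {n : ℕ} {G : X.Modules} (hG : ClSub.KilledByIdeal (𝓘 ^ (n + 1)) G)
    (hlf : FlatMod.IsFinLocFree ((Scheme.Modules.pullback (𝓘 ^ (n + 1)).subschemeι).obj G))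
    {V : X.affineOpens} {e : Γ(L, V.1)} {f : Fin r → Γ(X, V.1)} (h : IsMFrame 𝓘 σ V e f)
    (g : Mn r n → Γ(G, V.1)) (hg : ∑ d, mon f d.1 • g d = 0) (d : Mn r n) :
    g d ∈ 𝓘.ideal V • (⊤ : Submodule Γ(X, V.1) Γ(G, V.1)) := by
  obtain ⟨s, a, b, ha, hb⟩ := Sga2lef.H78.DualBasis.exists_dualBasis_sec (𝓘 ^ (n + 1)) hG hlf V.2
  choose c hc using fun d j => (𝓘 ^ (n + 1)).subschemeι_app_surjective V (a j (g d))
  have h1 : ∀ j, c d j ∈ 𝓘.ideal V := by
    intro j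
    rw [h.ideal_eq]
    refine qr_mem h.qr n (fun d => c d j) ?_ d
    rw [← h.pow_eq, ← Scheme.IdealSheafData.ker_subschemeι_app, RingHom.mem_ker]
    change (𝓘 ^ (n + 1)).subschemeι.app V.1 (∑ d, mon f d.1 * c d j) = 0
    rw [map_sum, ← map_zero (a j), ← hg, map_sum]
    refine Finset.sum_congr rfl fun d _ => ?_
    rw [map_mul, hc, ha]
  rw [hb (g d) (c d) (hc d)]
  exact Submodule.sum_mem _ fun j _ => Submodule.smul_mem_smul (h1 j) Submodule.mem_top

theorem killed_toZero {G : ℕ → X.Modules} {π : ∀ n, G (n + 1) ⟶ G n} (kq : ∀ n, IsKQuot (𝓘 ^ (n + 1)) (π n)) :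
    ClSub.KilledByIdeal 𝓘 (G 0) := by
  have := (kq 0).killed
  rwa [zero_add, pow_one] at this

/-- **Levelwise finite locally free systems are quasi-regular systems.** -/
theorem isQRSys_of_lf {G : ℕ → X.Modules} {π : ∀ n, G (n + 1) ⟶ G n} (coh : ∀ n, Coh.IsCoh (G n))
    (kq : ∀ n, IsKQuot (𝓘 ^ (n + 1)) (π n))
    (hlf : ∀ n, FlatMod.IsFinLocFree ((Scheme.Modules.pullback (𝓘 ^ (n + 1)).subschemeι).obj (G n))) :
    IsQRSys 𝓘 σ G π where
  coh := coh
  kq := kq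
  qr n V e f hf g hg d :=
    app_eq_zero_of_mem (toZero π n) (killed_toZero kq) V _
      (mem_of_sum_eq_zero ((kq n).killed) (hlf n) hf g hg d)

/-- The system of a finite locally free module. -/
theorem isQRSys_Bn {B : X.Modules} (hB : Coh.IsCoh B) (hBf : FlatMod.IsFinLocFree B) :
    IsQRSys 𝓘 σ (Bn 𝓘 B) (πB 𝓘 hB) := by
  refine isQRSys_of_lf (fun n => isCoh_kq _ hB) (isKQuot_πB 𝓘 hB) fun n => ?_
  have h1 := isIso_pullback_kπ (𝓘 ^ (n + 1)) B
  exact Dcoh.FinLocFree.isFinLocFree_of_iso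
    (@asIso _ _ _ _ ((Scheme.Modules.pullback (𝓘 ^ (n + 1)).subschemeι).map (kπ (𝓘 ^ (n + 1)) B)) h1)
    (PerfC.PullRestrict.isFinLocFree_pullback (𝓘 ^ (n + 1)).subschemeι hBf)

end K575.QOf
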