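import Groth.Agent.LefX.K575.QLift
import Groth.Agent.LefX.K575.QOf

/-!
# Presentations of quasi-regular systems and their algebraization
-/

set_option autoImplicit false
universe u

open CategoryTheory CategoryTheory.Limits AlgebraicGeometry Opposite TopologicalSpace

namespace K575.QPres

open Groth.Agent Groth.Agent.Fdesc.LocGen Groth.Agent.FormalB.KQuot Groth.Agent.FormalB.TrKQuot
  Groth.Agent.FormalB.HHLin Groth.Agent.Sga2lef.H83.Frame Groth.Agent.Sga2lef.H83.Sys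
  Groth.Agent.Sga2lef.H83.Twist Groth.Agent.Sga2lef.H83.BSys
  K575.Mon K575.QFrame K575.QSys K575.QMon K575.QKer K575.QOf

open Groth.Agent.Sga2lef.H83.Pres (Dm isFinLocFree_Dm isCoh_Dm exists_epi_ge isEquivalence_Tpow
  nonempty_Tpow_Dm exists_lift_hom)
open Groth.Agent.Sga2lef.H83.Ker (πK πK_ι)

variable {X : Scheme.{u}} {𝓘 : X.IdealSheafData} {L : X.Modules} {r : ℕ}
  {σ : Fin r → (Coh.structureModule X ⟶ L)} {G : ℕ → X.Modules} {π : ∀ n, G (n + 1) ⟶ G n}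

/-- Nakayama for quasi-regular systems. -/
theorem epi_of_epi_zero (hσ : HasMFrame 𝓘 σ) (hG : IsQRSys 𝓘 σ G π) {D : X.Modules}
    (hD : Coh.IsQCoh D) (φ : ∀ n, D ⟶ G n) (hφ : ∀ n, φ (n + 1) ≫ π n = φ n) (h0 : Epi (φ 0)) :
    ∀ n, Epi (φ n) := by
  intro n
  induction n with
  | zero => exact h0
  | succ n ih =>
    have h1 : D.IsQuasicoherent := hD
    have h2 : (G n).IsQuasicoherent := (hG.coh n).1
    refine epi_of_frame hσ _ fun V e f hf g => ?_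
    have key : ∀ g : Γ(G (n + 1), V.1), ∃ (d : Γ(D, V.1)) (g' : Mn r (n + 1) → Γ(G (n + 1), V.1)),
        g = (φ (n + 1)).app V.1 d + ∑ m, mon f m.1 • g' m := by
      intro g
      obtain ⟨d, hd⟩ := FormalB.QcSect.surjective_app_of_epi (φ n) V.2 ((π n).app V.1 g)
      have h3 : (π n).app V.1 (g - (φ (n + 1)).app V.1 d) = 0 := by
        rw [map_sub, ← hd, ← hφ n]
        exact sub_self _
      obtain ⟨g', hg'⟩ := (hG.app_eq_zero_iff hf n _).1 h3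
      exact ⟨d, g', by rw [← hg']; abel⟩
    obtain ⟨d, g', h4⟩ := key g
    choose d' g'' h5 using fun m => key (g' m)
    refine ⟨d + ∑ m, mon f m.1 • d' m, ?_⟩
    rw [map_add, map_sum, h4]
    congr 1
    refine Finset.sum_congr rfl fun m _ => ?_
    rw [Scheme.Modules.Hom.app_smul, h5 m, smul_add, Finset.smul_sum, Finset.sum_eq_zero, add_zero]
    intro m' _
    rw [← mul_smul, mon_eq, mul_comm (f (lt m)), mul_assoc, ← mon_up, mul_smul,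
      hG.mon_smul_eq_zero hf (n + 1) (up (lt m) m'), smul_zero]

/-- Compatible epimorphisms `D ⟶ G n` give an epimorphism of systems. -/
theorem exists_sysMap (hG : IsQRSys 𝓘 σ G π) {D : X.Modules} (hD : Coh.IsCoh D) (φ : ∀ n, D ⟶ G n)
    (hφ : ∀ n, φ (n + 1) ≫ π n = φ n) (he : ∀ n, Epi (φ n)) :
    ∃ ψ : ∀ n, Bn 𝓘 D n ⟶ G n, (∀ n, pB 𝓘 D n ≫ ψ n = φ n) ∧
      (∀ n, ψ (n + 1) ≫ π n = πB 𝓘 hD n ≫ ψ n) ∧ ∀ n, Epi (ψ n) := by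
  choose ψ hψ using fun n => (isKQuot_pB 𝓘 hD n).desc (φ n) (hG.killed n)
  refine ⟨ψ, hψ, fun n => ?_, fun n => ?_⟩
  · have := (isKQuot_pB 𝓘 hD (n + 1)).epi
    rw [← cancel_epi (pB 𝓘 D (n + 1)), ← Category.assoc, hψ, hφ, pB_πB_assoc, hψ]
  · have := he n
    rw [← hψ n] at this
    exact epi_of_epi (pB 𝓘 D n) (ψ n)

/-- **Presentation of a quasi-regular system.** -/
theorem stage (hG : IsQRSys 𝓘 σ G π) {P : X.Modules} (hσ : HasMFrame 𝓘 σ)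
    (hLP : ClSub.IsInverseOf L P) (hamp : CohB1.IsAmple L) (hP : PicF.IsInvertible P) [IsLocallyNoetherian X]
    (A : Type u) [CommRing A] [IsNoetherianRing A] [X.Over (Spec (CommRingCat.of A))]
    (hfin : ∀ M : X.Modules, Coh.IsCoh M → ∀ p, Module.Finite A (Coh.HH X M p))
    (hser : ∀ M : X.Modules, Coh.IsCoh M → ∃ a₀ : ℕ, ∀ a, a₀ ≤ a → Subsingleton (Coh.HH X ((Tpow L a).obj M) 1))
    (hvan : ∃ c : ℕ, ∀ n, c ≤ n → Subsingleton (Coh.HH X (K π n) 1)) :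
    ∃ (a s : ℕ) (ψ : ∀ n, Bn 𝓘 (Dm P s a) n ⟶ G n),
      (∀ n, ψ (n + 1) ≫ π n = πB 𝓘 (isCoh_Dm hP s a) n ≫ ψ n) ∧ ∀ n, Epi (ψ n) := by
  obtain ⟨a₁, ha₁⟩ := QLift.exists_lift hG hσ hamp.1 hLP A hfin hser hvan
  obtain ⟨a, s, ha, p, hp⟩ := exists_epi_ge hLP hamp (hG.coh 0) a₁
  have := isEquivalence_Tpow hLP a
  obtain ⟨e⟩ := nonempty_Tpow_Dm hLP s a
  obtain ⟨φ, hφ0, hφ⟩ := exists_lift_hom e (ha₁ a ha) p
  have hD := isCoh_Dm hP s a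
  have he := epi_of_epi_zero hσ hG hD.1 φ hφ (by rw [hφ0]; exact hp)
  obtain ⟨ψ, -, hψ, hψ'⟩ := exists_sysMap hG hD φ hφ he
  exact ⟨a, s, ψ, hψ, hψ'⟩

theorem exists_of_presentation (hG : IsQRSys 𝓘 σ G π) {D D' : X.Modules} (hD : Coh.IsCoh D) (hD' : Coh.IsCoh D')
    (φ : ∀ n, Bn 𝓘 D n ⟶ G n) (hφ : ∀ n, φ (n + 1) ≫ π n = πB 𝓘 hD n ≫ φ n) (hφe : ∀ n, Epi (φ n))
    (φ' : ∀ n, Bn 𝓘 D' n ⟶ kernel (φ n)) (hφ'e : ∀ n, Epi (φ' n))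
    (χ : D' ⟶ D) (hχ : ∀ n, χ ≫ pB 𝓘 D n = pB 𝓘 D' n ≫ φ' n ≫ kernel.ι (φ n)) :
    ∃ p : ∀ n, cokernel χ ⟶ G n, (∀ n, p (n + 1) ≫ π n = p n) ∧ ∀ n, IsKQuot (𝓘 ^ (n + 1)) (p n) := by
  have h0 : ∀ n, χ ≫ pB 𝓘 D n ≫ φ n = 0 := fun n => by
    rw [← Category.assoc, hχ, Category.assoc, Category.assoc, kernel.condition, comp_zero, comp_zero]
  let p : ∀ n, cokernel χ ⟶ G n := fun n => cokernel.desc χ (pB 𝓘 D n ≫ φ n) (h0 n)
  have hp : ∀ n, cokernel.π χ ≫ p n = pB 𝓘 D n ≫ φ n := fun n => cokernel.π_desc _ _ _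
  have hpD : ∀ n, Epi (pB 𝓘 D n) := fun n => (isKQuot_pB 𝓘 hD n).epi
  have hpD' : ∀ n, Epi (pB 𝓘 D' n) := fun n => (isKQuot_pB 𝓘 hD' n).epi
  refine ⟨p, fun n => ?_, fun n => ?_⟩
  · rw [← cancel_epi (cokernel.π χ), ← Category.assoc, hp, hp, Category.assoc, hφ, pB_πB_assoc]
  · have hpe : Epi (pB 𝓘 D n ≫ φ n) := epi_comp _ _
    refine ⟨?_, hG.killed n, fun {Z} ψ hZ => ?_⟩
    · rw [← hp n] at hpe
      exact epi_of_epi (cokernel.π χ) (p n)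
    · obtain ⟨ψ', hψ'⟩ := (isKQuot_pB 𝓘 hD n).desc (cokernel.π χ ≫ ψ) hZ
      have h1 : kernel.ι (φ n) ≫ ψ' = 0 := by
        have := hφ'e n
        rw [← cancel_epi (φ' n), ← cancel_epi (pB 𝓘 D' n), comp_zero, comp_zero, ← Category.assoc (φ' n),
          ← Category.assoc (pB 𝓘 D' n), ← hχ, Category.assoc, hψ', cokernel.condition_assoc, zero_comp]
      refine ⟨Abelian.epiDesc (φ n) ψ' h1, ?_⟩
      rw [← cancel_epi (cokernel.π χ), ← Category.assoc, hp, Category.assoc, Abelian.comp_epiDesc, hψ']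

/-- **Algebraization of quasi-regular systems.** -/
theorem algebraize [IsLocallyNoetherian X] (hG : IsQRSys 𝓘 σ G π) {P : X.Modules}
    (hσ : HasMFrame 𝓘 σ) (hLP : ClSub.IsInverseOf L P) (hamp : CohB1.IsAmple L) (hP : PicF.IsInvertible P)
    (A : Type u) [CommRing A] [IsNoetherianRing A] [X.Over (Spec (CommRingCat.of A))]
    (hfin : ∀ M : X.Modules, Coh.IsCoh M → ∀ p, Module.Finite A (Coh.HH X M p))
    (hser : ∀ M : X.Modules, Coh.IsCoh M → ∃ a₀ : ℕ, ∀ a, a₀ ≤ a → Subsingleton (Coh.HH X ((Tpow L a).obj M) 1))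
    (hvG : Sga2lef.H83.Alg.Van P (G 0))
    (hvV : ∀ E : 𝓘.subscheme.Modules, FlatMod.IsFinLocFree E →
      Sga2lef.H83.Alg.Van P ((Scheme.Modules.pushforward 𝓘.subschemeι).obj E))
    (hcomp : ∀ (s a s' a' : ℕ) (χ : ∀ n, Dm P s' a' ⟶ Bn 𝓘 (Dm P s a) n),
      (∀ n, χ (n + 1) ≫ πB 𝓘 (isCoh_Dm hP s a) n = χ n) →
      ∃ f : Dm P s' a' ⟶ Dm P s a, ∀ n, f ≫ pB 𝓘 (Dm P s a) n = χ n) :
    ∃ F : X.Modules, Coh.IsCoh F ∧ ∃ p : ∀ n, F ⟶ G n, (∀ n, p (n + 1) ≫ π n = p n) ∧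
      ∀ n, IsKQuot (𝓘 ^ (n + 1)) (p n) := by
  obtain ⟨c, hc⟩ := van_K hG hσ hamp.1 hLP hvG
  obtain ⟨a, s, φ, hφ, hφe⟩ := stage hG hσ hLP hamp hP A hfin hser ⟨c, fun n hn => hc n hn 1 le_rfl⟩
  have hD := isCoh_Dm hP s a
  have hB : IsQRSys 𝓘 σ (Bn 𝓘 (Dm P s a)) (πB 𝓘 hD) := isQRSys_Bn hD (isFinLocFree_Dm hP s a)
  have hK := isQRSys_kernel hG hB φ hφ hφe hσ
  have h1 : Sga2lef.H83.Alg.Van P (Bn 𝓘 (Dm P s a) 0) := by
    rw [Sga2lef.H83.Alg.Bn_zero]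
    exact hvV _ (PerfC.PullRestrict.isFinLocFree_pullback 𝓘.subschemeι (isFinLocFree_Dm hP s a))
  obtain ⟨c', hc'⟩ := van_K hB hσ hamp.1 hLP h1
  obtain ⟨a', s', φ', hφ', hφ'e⟩ := stage hK hσ hLP hamp hP A hfin hser
    ⟨max c c' + 1, fun n hn => by
      obtain ⟨n, rfl⟩ : ∃ m, n = m + 1 := ⟨n - 1, by omega⟩
      exact van_kernel hG hB φ hφ hφe hσ n (hc (n + 1) (by omega) 0 zero_le_one)
        (hc' (n + 1) (by omega) 1 le_rfl)⟩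
  have hD' := isCoh_Dm hP s' a'
  obtain ⟨χ, hχ⟩ := hcomp s a s' a' (fun n => pB 𝓘 (Dm P s' a') n ≫ φ' n ≫ kernel.ι (φ n)) (fun n => by
    rw [Category.assoc, Category.assoc, ← πK_ι φ hφ n, ← Category.assoc (φ' (n + 1)), hφ' n, Category.assoc,
      pB_πB_assoc])
  obtain ⟨p, hp, hp'⟩ := exists_of_presentation hG hD hD' φ hφ hφe φ' hφ'e χ hχ
  exact ⟨cokernel χ, PerfA.CohSerre.isCoh_cokernel χ hD'.1 hD, p, hp, hp'⟩

end K575.QPres
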