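import Groth.Agent.LefX.K575.Geo
import Groth.Agent.LefX.K575.Chg
import Groth.Agent.LefX.K575.QPres
import Groth.Agent.LefX.K575.HomLef
import Groth.Agent.Sga2lef.H83.Main
import Groth.Agent.Sga2lef.H81.LocFreeNhd

/-!
# Algebraization for complete intersections in a regular projective variety
-/

set_option autoImplicit false
universe u

open CategoryTheory AlgebraicGeometry Limits TopologicalSpace Opposite

namespace K575.CIMain

open LefPen Groth.Agent Groth.Agent.FormalB.KQuot Groth.Agent.FormalB.TrKQuot Groth.Agent.Lefpen.H608.TwistTriv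
  Groth.Agent.Lefpen.H705.SecIdeal Groth.Agent.Sga2lef.H96.ModSysPush Groth.Agent.Sga2lef.H83.BSys
  K575.Forms K575.FormSec K575.QFrame K575.QSys K575.Chg

/-- The restriction to a smaller closed subscheme. -/
theorem isFinLocFree_pullback_of_le {X : Scheme.{u}} {K K' : X.IdealSheafData} (h : K ≤ K') {M : X.Modules}
    (hM : FlatMod.IsFinLocFree ((Scheme.Modules.pullback K.subschemeι).obj M)) :
    FlatMod.IsFinLocFree ((Scheme.Modules.pullback K'.subschemeι).obj M) := by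
  have e2 : (Scheme.Modules.pullback (Scheme.IdealSheafData.inclusion h)).obj
      ((Scheme.Modules.pullback K.subschemeι).obj M) ≅ (Scheme.Modules.pullback K'.subschemeι).obj M :=
    (Scheme.Modules.pullbackComp (Scheme.IdealSheafData.inclusion h) K.subschemeι).app M ≪≫
      (Scheme.Modules.pullbackCongr (Scheme.IdealSheafData.inclusion_subschemeι h)).app M
  exact Dcoh.FinLocFree.isFinLocFree_of_iso e2
    (PerfC.PullRestrict.isFinLocFree_pullback (Scheme.IdealSheafData.inclusion h) hM)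

section General

variable {X : Scheme.{u}} {𝓘 𝓙 : X.IdealSheafData} {L P : X.Modules} {r : ℕ}
  {σ : Fin r → (Coh.structureModule X ⟶ L)}

/-- The general form of the algebraization. -/
theorem exists_coh (k : Type u) [Field k] [X.Over (Spec (CommRingCat.of k))]
    [IsProper (X ↘ Spec (CommRingCat.of k))] (hσ : HasMFrame 𝓙 σ) (hLP : ClSub.IsInverseOf L P)
    (hamp : CohB1.IsAmple L) (hJ : 𝓙 ≤ 𝓘) {b : ℕ} (hb : 𝓘 ^ (b + 1) ≤ 𝓙)
    (hvV : ∀ E : 𝓙.subscheme.Modules, FlatMod.IsFinLocFree E →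
      Sga2lef.H83.Alg.Van P ((Scheme.Modules.pushforward 𝓙.subschemeι).obj E))
    (hH : ∀ D : X.Modules, Coh.IsCoh D → Lef.HomToFormalBijective 𝓙 D)
    (𝔐 : FSch.ModSys (FSch.completionAlong X 𝓘)) (h𝔐 : LefX.LevelwiseFinLocFree 𝔐) :
    ∃ F : X.Modules, Coh.IsCoh F ∧ Nonempty (FSch.completionMod 𝓘 F ≅ 𝔐) ∧
      ∀ n, FlatMod.IsFinLocFree ((Scheme.Modules.pullback (FSch.completionToX X 𝓘 n)).obj F) := by
  have hln : IsLocallyNoetherian X := LocallyOfFiniteType.isLocallyNoetherian (X ↘ Spec (CommRingCat.of k))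
  have hP : PicF.IsInvertible P := (Dix.IdealModCartier.isInvertible_of_isInverseOf hLP).2
  have coh : ∀ n, Coh.IsCoh (pm 𝔐 n) := fun n => by
    have : IsLocallyNoetherian (𝓘 ^ (n + 1)).subscheme :=
      LocallyOfFiniteType.isLocallyNoetherian (𝓘 ^ (n + 1)).subschemeι
    exact Sga2lef.H96.ModSysFormal.isCoh_pm 𝔐 n (PerfA.CohSerre.isCoh_of_isFinLocFree (h𝔐 n))
  have hlf : ∀ n, FlatMod.IsFinLocFree ((Scheme.Modules.pullback (𝓘 ^ (n + 1)).subschemeι).obj (pm 𝔐 n)) := fun n => by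
    have := isIso_counit (𝓘 ^ (n + 1)) (𝔐.F n)
    exact Dcoh.FinLocFree.isFinLocFree_of_iso (asIso ((Scheme.Modules.pullbackPushforwardAdjunction
      (𝓘 ^ (n + 1)).subschemeι).counit.app (𝔐.F n))).symm (h𝔐 n)
  have kq : ∀ n, IsKQuot (𝓘 ^ (n + 1)) (ptr 𝔐 n) := isKQuot_ptr 𝔐
  have hG : IsQRSys 𝓙 σ (G' 𝓙 (fun n => pm 𝔐 n) b) (π' (ptr 𝔐) coh 𝓙 b) :=
    QOf.isQRSys_of_lf (isCoh_G' coh) (isKQuot_π' coh kq hb)
      (fun n => isFinLocFree_pullback_kq (pow_lvl hb n) (hlf (lvl b n)))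
  have hvG : Sga2lef.H83.Alg.Van P (G' 𝓙 (fun n => pm 𝔐 n) b 0) := by
    have key : ∀ J : X.IdealSheafData, J = 𝓙 → ∀ E : J.subscheme.Modules, FlatMod.IsFinLocFree E →
        Sga2lef.H83.Alg.Van P ((Scheme.Modules.pushforward J.subschemeι).obj E) := by
      rintro _ rfl
      exact hvV
    exact key (𝓙 ^ (0 + 1)) (by rw [zero_add, pow_one]) _
      (isFinLocFree_pullback_of_le (pow_lvl hb 0) (hlf (lvl b 0)))
  obtain ⟨F, hF, p, hp, hp'⟩ := QPres.algebraize hG hσ hLP hamp hP k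
    (fun M hM p => Groth.Agent.S0002.result k X M hM p) (Sga2lef.H83.Main.serre k X hamp.1 hamp) hvG hvV
    (fun s a s' a' χ hχ => by
      obtain ⟨e⟩ := Sga2lef.H83.Pres.nonempty_Tpow_Dm hLP s a
      exact HomLef.exists_hom hσ hLP hH (Sga2lef.H83.Pres.isCoh_Dm hP s a) a s e
        (Sga2lef.H83.Pres.isCoh_Dm hP s' a') χ hχ)
  obtain ⟨q, hq, hq'⟩ := exists_back coh kq hJ p hp hp'
  have e := Sga2lef.H96.ModSysRec.nonempty_iso_of_isKQuot 𝔐 F hF.1 q hq' hq
  refine ⟨F, hF, e, fun n => ?_⟩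
  obtain ⟨en⟩ := Sga2lef.H83.OfMod.nonempty_iso_level e n
  exact Dcoh.FinLocFree.isFinLocFree_of_iso en.symm (h𝔐 n)

end General

variable {N : ℕ} {k : Type u} [Field k] {X : Scheme.{u}} (ι : X ⟶ CohB1.ProjSpace N k) [IsAffineHom ι] {r : ℕ}
  {a : Fin r → ℕ} (G : ∀ j, Form N k (a j)) [X.Over (Spec (CommRingCat.of k))]
  [IsProper (X ↘ (Spec (CommRingCat.of k)))] [AlgebraicGeometry.IsIntegral X]
  (hreg : ∀ x : X, IsRegularLocalRing (X.presheaf.stalk x)) {n : ℕ} (hdim : topologicalKrullDim X = n)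
  (hr : r + 2 ≤ n) (ha : ∀ j, 1 ≤ a j)
  (hY : topologicalKrullDim ((((ciIdeal G).comap ι).support : Set X)) = ((n - r : ℕ) : WithBot ℕ∞))

include hreg hdim hr ha hY

theorem leffCond (hlef : Lef.LefCond X ((ciIdeal G).comap ι))
    (hH : ∀ D : X.Modules, Coh.IsCoh D → Lef.HomToFormalBijective ((ciIdeal (pws G)).comap ι) D) :
    LefX.LeffCond X ((ciIdeal G).comap ι) := by
  refine ⟨hlef, fun 𝔐 h𝔐 => ?_⟩
  have hln : IsLocallyNoetherian X := LocallyOfFiniteType.isLocallyNoetherian (X ↘ Spec (CommRingCat.of k))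
  have hsec : secIdeal ι (Set.range (pws G)) = (ciIdeal (pws G)).comap ι := Geo.sec_range ι (pws G)
  have hY' : topologicalKrullDim ((secIdeal ι (Set.range (pws G))).support : Set X) ≤ ((n - r : ℕ) : WithBot ℕ∞) := by
    rw [hsec, support_pws ι G ha]
    exact hY.le
  have hσ := Geo.hasMFrame (k := k) ι (pws G) hreg hdim (by omega) hY'
  have hLP := isInverseOf_tw ι ((cdeg a : ℕ) : ℤ)
  have hamp : CohB1.IsAmple (tw ι ((cdeg a : ℕ) : ℤ)) := isAmple_tw ι (one_le_cdeg ha)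
  obtain ⟨B, hB1, hB⟩ := exists_pow_le ι G
  obtain ⟨b, rfl⟩ : ∃ b, B = b + 1 := ⟨B - 1, by omega⟩
  have hvV : ∀ E : ((ciIdeal (pws G)).comap ι).subscheme.Modules, FlatMod.IsFinLocFree E →
      Sga2lef.H83.Alg.Van (tw ι (-((cdeg a : ℕ) : ℤ)))
        ((Scheme.Modules.pushforward ((ciIdeal (pws G)).comap ι).subschemeι).obj E) := by
    have key : ∀ J : X.IdealSheafData, J = secIdeal ι (Set.range (pws G)) → ∀ E : J.subscheme.Modules,
        FlatMod.IsFinLocFree E → Sga2lef.H83.Alg.Van (tw ι (-((cdeg a : ℕ) : ℤ)))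
          ((Scheme.Modules.pushforward J.subschemeι).obj E) := by
      rintro _ rfl E hE
      exact Geo.van (k := k) (secIdeal ι (Set.range (pws G))) hLP hamp
        (fun y hy => Geo.le_depth (k := k) ι (pws G) hreg hdim hY' 2 (by omega) y hy) E hE
    exact key _ hsec.symm
  obtain ⟨F, hF, ⟨e⟩, hfl⟩ := exists_coh k hσ hLP hamp (pw_le ι G ha) hB hvV hH 𝔐 h𝔐
  obtain ⟨U, hU, hE, ⟨e'⟩⟩ := Sga2lef.H81.LocFreeNhd.exists_locFree_nhd _ F hF hfl
  exact ⟨U, F.restrict U.ι, hU, hE, ⟨e' ≪≫ e⟩⟩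

end K575.CIMain
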