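import Groth.Agent.FormalB.TwistFrac
import Groth.Agent.Lefpen.H705.SecIdeal
import Groth.Agent.Lefpen.H608.TwistTriv
import Groth.Agent.Fdesc.LocGenPullback
import Groth.Agent.Ega2.TwistInv
import Groth.Agent.Divis.NormAmple
import Groth.Agent.CohqB.AmpGeneric

/-!
# Forms as sections of `O(a)` restricted to a scheme over projective space

* `fs G U`: the form `G` of degree `a` as a section of `O(a)` over `U`; `fs_eq`: on the chart `D_+(T_i)` it is
  `(G / T_i^a) • T_i^a`.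
* `σF ι G : O_X ⟶ ι^* O(a)`, `sec_σF`.
* `isAmple_tw`, `isInverseOf_tw`.
-/

set_option autoImplicit false
universe u

open CategoryTheory CategoryTheory.Limits AlgebraicGeometry Opposite TopologicalSpace

namespace K575.FormSec

open LefPen Groth.Agent Groth.Agent.Fdesc.LocGen Groth.Agent.Lefpen.H705.HypIdeal
  Groth.Agent.Lefpen.H705.SecIdeal Groth.Agent.Lefpen.H608.TwistTriv Groth.Agent.FormalB.TwistFrac

variable {N : ℕ} {k : Type u} [Field k] {a : ℕ}

theorem one_notMem (x : ProjectiveSpectrum (CohB1.polyGrading N k)) : (1 : MvPolynomial (Fin (N + 1)) k) ∉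
    x.asHomogeneousIdeal := fun h => x.isPrime.ne_top ((Ideal.eq_top_iff_one _).mpr h)

/-- The form `G` as a section of `O(a)`. -/
noncomputable def fs (G : Form N k a) (U : (CohB1.ProjSpace N k).Opens) :
    Γ(Twist.twistProjSpace N k (a : ℤ), U) :=
  show Twist.sectN (𝒜 := CohB1.polyGrading N k) (a : ℤ) (op U) from
    Ega2.TwistBasic.fracSec (𝒜 := CohB1.polyGrading N k) (a : ℤ) (i := a) (j := 0) G
      ⟨1, SetLike.GradedOne.one_mem⟩ (by simp) U (fun x _ => one_notMem x)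

theorem tval_fs (G : Form N k a) (U : (CohB1.ProjSpace N k).Opens) (x : U) :
    tval (fs G U) x = Localization.mk G.1 ⟨1, one_notMem x.1⟩ := rfl

theorem res_fs (G : Form N k a) {U V : (CohB1.ProjSpace N k).Opens} (h : V ≤ U) : res _ h (fs G U) = fs G V := rfl

/-- `T_i ^ a`. -/
noncomputable def Tpw (N : ℕ) (k : Type u) [Field k] (a : ℕ) (i : Fin (N + 1)) : Form N k a :=
  ⟨MvPolynomial.X i ^ a, by
    have h := SetLike.pow_mem_graded (A := CohB1.polyGrading N k) a (LefPen.X_mem N k i)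
    rwa [smul_eq_mul, mul_one] at h⟩

theorem isGen_fs (i : Fin (N + 1)) {V : (CohB1.ProjSpace N k).Opens} (hV : V ≤ chart N k i) :
    IsGen (fs (Tpw N k a i) V) :=
  Ega2.TwistBasic.isGen_fracSec (𝒜 := CohB1.polyGrading N k) (a : ℤ) (i := a) (j := 0) (Tpw N k a i)
      ⟨1, SetLike.GradedOne.one_mem⟩ (by simp) V (fun x _ => one_notMem x)
      (fun x hx h => hV hx (x.isPrime.mem_of_pow_mem a h))

theorem fs_eq (G : Form N k a) (i : Fin (N + 1)) {V : (CohB1.ProjSpace N k).Opens} (hV : V ≤ chart N k i) :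
    fs G V = ores hV (dehom G i) • fs (Tpw N k a i) V := by
  apply tval_ext
  intro x
  have h0 : tval (ores hV (dehom G i) • fs (Tpw N k a i) V) x =
      oval (ores hV (dehom G i)) x * Localization.mk (Tpw N k a i).1 ⟨1, one_notMem x.1⟩ :=
    tval_smul (𝒜 := CohB1.polyGrading N k) (ores hV (dehom G i)) (fs (Tpw N k a i) V) x
  refine Eq.trans ?_ h0.symm
  change Localization.mk G.1 ⟨1, one_notMem x.1⟩ = _
  have h1 : oval (ores hV (dehom G i)) x = Localization.mk G.1
      ⟨MvPolynomial.X i ^ a, pow_mem_primeCompl i ⟨x.1, hV x.2⟩ a⟩ := dehom_val G i ⟨x.1, hV x.2⟩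
  rw [h1, Localization.mk_mul, Localization.mk_eq_mk_iff, Localization.r_iff_exists]
  refine ⟨1, ?_⟩
  simp only [Tpw, OneMemClass.coe_one, Submonoid.coe_mul, one_mul, mul_one]
  ring

variable {X : Scheme.{u}} (ι : X ⟶ CohB1.ProjSpace N k)

/-- The section of `O_X(a)` given by a form. -/
noncomputable def σF (G : Form N k a) : Coh.structureModule X ⟶ tw ι (a : ℤ) :=
  homOf (pullSec ι (fs G ⊤))

/-- The generator of `O_X(a)` over an open in the inverse image of a chart. -/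
noncomputable def eF (a : ℕ) (i : Fin (N + 1)) {V : X.Opens} (hV : V ≤ ι ⁻¹ᵁ chart N k i) : Γ(tw ι (a : ℤ), V) :=
  res _ hV (pullSec ι (fs (Tpw N k a i) (chart N k i)))

theorem isGen_eF (i : Fin (N + 1)) {V : X.Opens} (hV : V ≤ ι ⁻¹ᵁ chart N k i) : IsGen (eF ι a i hV) :=
  ((isGen_fs i le_rfl).pullSec ι).res hV

theorem sec_σF (G : Form N k a) (i : Fin (N + 1)) {V : X.Opens} (hV : V ≤ ι ⁻¹ᵁ chart N k i) :
    sec (σF ι G) V = eqn ι i V hV G • eF ι a i hV := by
  have h1 : sec (σF ι G) V = res _ le_top (pullSec ι (fs G ⊤)) := sec_homOf _ V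
  have h2 : res (tw ι (a : ℤ)) (le_top : V ≤ ⊤) (pullSec ι (fs G ⊤)) =
      res _ hV (pullSec ι (fs G (chart N k i))) := by
    rw [← res_fs G (le_top : chart N k i ≤ ⊤), ← res_pullSec, res_res]
    rfl
  rw [h1, h2, fs_eq G i (le_refl (chart N k i)), pullSec_smul, res_smul]
  congr 1

theorem isAmple_tw [IsAffineHom ι] (ha : 1 ≤ a) : CohB1.IsAmple (tw ι (a : ℤ)) := by
  obtain ⟨e⟩ := nonempty_tw_pow ι a
  exact CohqB.AmpCocycle.isAmple_of_iso e.symm (Divis.NormAmple.isAmple_tensorPow (isAmple_tw_one ι) ha)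

theorem isInverseOf_tw (e : ℤ) : ClSub.IsInverseOf (tw ι e) (tw ι (-e)) := by
  obtain ⟨φ⟩ := nonempty_tw_mul ι e (-e)
  obtain ⟨χ⟩ := nonempty_tw_zero ι
  rw [add_neg_cancel] at φ
  exact ⟨φ ≪≫ χ⟩

end K575.FormSec
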