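import Groth.Agent.Lefpen.H705.SecIdeal

/-!
# Ideals of complete intersections on the charts, and powers of forms

* `ci_ideal_of_le`: `((ciIdeal G).comap ι).ideal V` is generated by the `eqn ι i V hV (G j)`.
* `pf G b h`: the power `G ^ b` as a form, `eqn_pf`.
* `pw_le`, `exists_pow_le`: comparison of the ideals of `G` and of the powers of `G`.
-/

set_option autoImplicit false
universe u

open CategoryTheory AlgebraicGeometry Limits TopologicalSpace Opposite

namespace K575.Forms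

open LefPen Groth.Agent.Divis.IdealComap Groth.Agent.Fdesc.LocGen Groth.Agent.Lefpen.H705.HypIdeal
  Groth.Agent.Lefpen.H705.SecIdeal

variable {N : ℕ} {k : Type u} [Field k] {X : Scheme.{u}} (ι : X ⟶ CohB1.ProjSpace N k) {r : ℕ} {a : Fin r → ℕ}

theorem ciIdeal_ideal_of_le (G : ∀ j, Form N k (a j)) (i : Fin (N + 1)) (U : (CohB1.ProjSpace N k).affineOpens)
    (hU : U.1 ≤ chart N k i) :
    (ciIdeal G).ideal U = Ideal.span (Set.range fun j => ores hU (dehom (G j) i)) := by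
  rw [ciIdeal, Scheme.IdealSheafData.ideal_iSup, iSup_apply]
  simp_rw [hypIdeal_ideal_of_le _ i U hU]
  rw [← Ideal.span_iUnion]
  congr 1
  ext x
  simp [eq_comm]

theorem ci_ideal_of_le (G : ∀ j, Form N k (a j)) (i : Fin (N + 1)) (V : X.affineOpens)
    (hV : V.1 ≤ ι ⁻¹ᵁ chart N k i) :
    ((ciIdeal G).comap ι).ideal V = Ideal.span (Set.range fun j => eqn ι i V.1 hV (G j)) := by
  rw [ideal_comap _ ι ⟨chart N k i, isAffineOpen_chart i⟩ V hV, ciIdeal_ideal_of_le G i _ le_rfl,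
    Ideal.map_span, ← Set.range_comp]
  congr 2

/-- The power of a form. -/
noncomputable def pf {d c : ℕ} (G : Form N k d) (b : ℕ) (h : b * d = c) : Form N k c :=
  ⟨G.1 ^ b, by
    subst h
    exact SetLike.pow_mem_graded (A := CohB1.polyGrading N k) b G.2⟩

theorem dehom_pf {d c : ℕ} (G : Form N k d) (b : ℕ) (h : b * d = c) (i : Fin (N + 1)) :
    dehom (pf G b h) i = dehom G i ^ b := by
  subst h
  refine section_ext _ _ fun p => ?_
  have h1 : ((dehom G i ^ b).1 p).val = ((dehom G i).1 p).val ^ b := by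
    change (((dehom G i).1 p) ^ b).val = _
    rw [HomogeneousLocalization.val_pow]
  rw [h1, dehom_val, dehom_val, Localization.mk_pow, Localization.mk_eq_mk_iff, Localization.r_iff_exists]
  refine ⟨1, ?_⟩
  simp only [pf, OneMemClass.coe_one, one_mul, SubmonoidClass.mk_pow, ← pow_mul, mul_comm b d]

theorem eqn_pf {d c : ℕ} (G : Form N k d) (b : ℕ) (h : b * d = c) (i : Fin (N + 1)) (V : X.Opens)
    (hV : V ≤ ι ⁻¹ᵁ chart N k i) : eqn ι i V hV (pf G b h) = eqn ι i V hV G ^ b := by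
  rw [eqn, dehom_pf, map_pow]
  rfl

/-! ### The common degree -/

/-- The common degree. -/
def cdeg (a : Fin r → ℕ) : ℕ := ∏ j, a j

/-- The exponents. -/
def cexp (a : Fin r → ℕ) (j : Fin r) : ℕ := ∏ l ∈ Finset.univ.erase j, a l

theorem cexp_mul (a : Fin r → ℕ) (j : Fin r) : cexp a j * a j = cdeg a :=
  Finset.prod_erase_mul _ _ (Finset.mem_univ j)

theorem one_le_cdeg (ha : ∀ j, 1 ≤ a j) : 1 ≤ cdeg a :=
  Nat.one_le_iff_ne_zero.mpr (Finset.prod_ne_zero_iff.mpr fun j _ => Nat.one_le_iff_ne_zero.mp (ha j))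

theorem one_le_cexp (ha : ∀ j, 1 ≤ a j) (j : Fin r) : 1 ≤ cexp a j :=
  Nat.one_le_iff_ne_zero.mpr (Finset.prod_ne_zero_iff.mpr fun j _ => Nat.one_le_iff_ne_zero.mp (ha j))

/-- The powers of the forms, all of degree `cdeg a`. -/
noncomputable def pws (G : ∀ j, Form N k (a j)) (j : Fin r) : Form N k (cdeg a) :=
  pf (G j) (cexp a j) (cexp_mul a j)

theorem iSup_preimage_chart : ⨆ i : Fin (N + 1), ι ⁻¹ᵁ chart N k i = ⊤ := by
  rw [eq_top_iff]
  intro x _
  have h : ι x ∈ ⨆ j : Fin (N + 1), chart N k j := by rw [iSup_chart]; trivial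
  obtain ⟨j, hj⟩ := Opens.mem_iSup.mp h
  exact Opens.mem_iSup.mpr ⟨j, hj⟩

/-- The inverse image of a chart, as an affine open. -/
noncomputable def pch [IsAffineHom ι] (i : Fin (N + 1)) : X.affineOpens :=
  ⟨ι ⁻¹ᵁ chart N k i, (isAffineOpen_chart i).preimage ι⟩

theorem pch_le [IsAffineHom ι] (i : Fin (N + 1)) : (pch ι i).1 ≤ ι ⁻¹ᵁ chart N k i := le_rfl

theorem pw_le [IsAffineHom ι] (G : ∀ j, Form N k (a j)) (ha : ∀ j, 1 ≤ a j) :
    (ciIdeal (pws G)).comap ι ≤ (ciIdeal G).comap ι := by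
  refine Scheme.IdealSheafData.le_of_iSup_eq_top (fun i : Fin (N + 1) => pch ι i)
    (iSup_preimage_chart ι) fun i => ?_
  rw [ci_ideal_of_le ι (pws G) i (pch ι i) (pch_le ι i), ci_ideal_of_le ι G i (pch ι i) (pch_le ι i), Ideal.span_le]
  rintro _ ⟨j, rfl⟩
  change eqn ι i _ _ (pf (G j) _ _) ∈ _
  rw [eqn_pf]
  exact Ideal.pow_mem_of_mem _ (Ideal.subset_span (Set.mem_range_self j)) _ (one_le_cexp ha j)

theorem exists_pow_le [IsAffineHom ι] (G : ∀ j, Form N k (a j)) :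
    ∃ B : ℕ, 1 ≤ B ∧ ((ciIdeal G).comap ι) ^ B ≤ (ciIdeal (pws G)).comap ι := by
  have h1 : ∀ i : Fin (N + 1), ∃ m : ℕ, (((ciIdeal G).comap ι).ideal (pch ι i)) ^ m ≤
      ((ciIdeal (pws G)).comap ι).ideal (pch ι i) := by
    intro i
    rw [ci_ideal_of_le ι (pws G) i (pch ι i) (pch_le ι i), ci_ideal_of_le ι G i (pch ι i) (pch_le ι i)]
    refine Ideal.exists_pow_le_of_le_radical_of_fg ?_ (Submodule.fg_span (Set.finite_range _))
    rw [Ideal.span_le]
    rintro _ ⟨j, rfl⟩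
    refine ⟨cexp a j, Ideal.subset_span ⟨j, ?_⟩⟩
    change eqn ι i _ _ (pf (G j) _ _) = _
    rw [eqn_pf]
  choose m hm using h1
  refine ⟨1 + ∑ i, m i, by omega, ?_⟩
  refine Scheme.IdealSheafData.le_of_iSup_eq_top (fun i : Fin (N + 1) => pch ι i)
    (iSup_preimage_chart ι) fun i => ?_
  refine le_trans ?_ (hm i)
  exact Ideal.pow_le_pow_right ((Finset.single_le_sum (fun _ _ => Nat.zero_le _)
    (Finset.mem_univ i)).trans (by omega))

theorem support_pws [IsAffineHom ι] (G : ∀ j, Form N k (a j)) (ha : ∀ j, 1 ≤ a j) :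
    ((ciIdeal (pws G)).comap ι).support = ((ciIdeal G).comap ι).support := by
  refine le_antisymm ?_ (Scheme.IdealSheafData.support_antitone (pw_le ι G ha))
  obtain ⟨B, hB1, hB⟩ := exists_pow_le ι G
  have h := Scheme.IdealSheafData.support_antitone hB
  rwa [Scheme.IdealSheafData.support_pow _ _ (by omega)] at h

end K575.Forms
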