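import Groth.Agent.CycA.IntCore2
import Groth.Agent.Pi1A.RamSeq
import Groth.Agent.Ega4dB.DepthReg
import Groth.Agent.CalgB.H1OfRegular
import Groth.Agent.CalgB.QuasiRegular

/-!
# Local algebra of complete intersections in regular local rings
-/

set_option autoImplicit false
universe u

open RingTheory.Sequence IsLocalRing

namespace K575.LocAlg

open Groth.Agent

/-- Quasi-regularity is local at the maximal ideals containing the ideal. -/
theorem isQuasiRegular_of_local {R : Type u} [CommRing R] {r : ℕ} (f : Fin r → R)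
    (h : ∀ (m : Ideal R) [m.IsMaximal], Ideal.span (Set.range f) ≤ m →
      ∃ (S : Type u) (_ : CommRing S) (_ : Algebra R S), IsLocalization.AtPrime S m ∧
        CAlgX.IsQuasiRegular (fun j => algebraMap R S (f j))) : CAlgX.IsQuasiRegular f := by
  intro n P hP hev d
  have key : ∀ (m : Ideal R) [m.IsMaximal], ∃ s : R, s ∉ m ∧ s * P.coeff d ∈ Ideal.span (Set.range f) := by
    intro m hm
    by_cases hI : Ideal.span (Set.range f) ≤ m
    · obtain ⟨S, _, _, hloc, hqr⟩ := h m hI
      have h1 : Ideal.span (Set.range fun j => algebraMap R S (f j)) =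
          (Ideal.span (Set.range f)).map (algebraMap R S) := by
        rw [Ideal.map_span, ← Set.range_comp]
        rfl
      have h2 := hqr n (P.map (algebraMap R S)) (hP.map _) (by
        rw [h1, ← Ideal.map_pow]
        have h3 : MvPolynomial.eval (fun j => algebraMap R S (f j)) (P.map (algebraMap R S)) =
            algebraMap R S (MvPolynomial.eval f P) := by
          rw [MvPolynomial.eval_map, MvPolynomial.eval₂_eq', MvPolynomial.eval_eq', map_sum]
          refine Finset.sum_congr rfl fun d _ => ?_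
          rw [map_mul, map_prod]
          simp only [map_pow]
        rw [h3]
        exact Ideal.mem_map_of_mem _ hev) d
      rw [MvPolynomial.coeff_map, h1] at h2
      have h4 := (IsLocalization.algebraMap_mem_map_algebraMap_iff m.primeCompl S _ _).1 h2
      obtain ⟨s, hs, hs'⟩ := h4
      exact ⟨s, hs, hs'⟩
    · rw [SetLike.not_le_iff_exists] at hI
      obtain ⟨s, hs, hs'⟩ := hI
      exact ⟨s, hs', Ideal.mul_mem_right _ _ hs⟩
  let J : Ideal R := (Ideal.span (Set.range f)).colon {P.coeff d}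
  have hJ : ∀ s, s ∈ J ↔ s * P.coeff d ∈ Ideal.span (Set.range f) := fun s => by
    rw [Submodule.mem_colon_singleton, smul_eq_mul]
  have hJt : J = ⊤ := by
    by_contra hne
    obtain ⟨m, hm, hJm⟩ := Ideal.exists_le_maximal J hne
    obtain ⟨s, hs, hs'⟩ := key m
    exact hs (hJm ((hJ s).2 hs'))
  have h1 : (1 : R) ∈ J := by rw [hJt]; trivial
  rw [hJ, one_mul] at h1
  exact h1

theorem ofList_ofFn {A : Type u} [CommRing A] {r : ℕ} (f : Fin r → A) :
    Ideal.ofList (List.ofFn f) = Ideal.span (Set.range f) := by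
  rw [Ideal.ofList]
  congr 1
  ext x
  simp [List.mem_ofFn]

theorem mem_of_mem_ofFn {A : Type u} [CommRing A] [IsLocalRing A] {r : ℕ} {f : Fin r → A}
    (hf : ∀ j, f j ∈ maximalIdeal A) : ∀ x ∈ List.ofFn f, x ∈ maximalIdeal A := by
  intro x hx
  rw [List.mem_ofFn] at hx
  obtain ⟨j, rfl⟩ := hx
  exact hf j

theorem supportDim_quot {A : Type u} [CommRing A] (rs : List A) :
    Module.supportDim A (A ⧸ Ideal.ofList rs • (⊤ : Submodule A A)) = ringKrullDim (A ⧸ Ideal.ofList rs) := by
  have e : (A ⧸ Ideal.ofList rs • (⊤ : Submodule A A)) ≃ₗ[A] A ⧸ Ideal.ofList rs :=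
    Submodule.quotEquivOfEq _ _ (by rw [smul_eq_mul, Ideal.mul_top])
  rw [Module.supportDim_eq_of_equiv e, Module.supportDim_quotient_eq_ringKrullDim]

/-- Part of a system of parameters of a regular local ring is a regular sequence. -/
theorem isWeaklyRegular_of_dim (A : Type u) [CommRing A] [IsRegularLocalRing A] {r n : ℕ} (f : Fin r → A)
    (hf : ∀ j, f j ∈ maximalIdeal A) (hn : ringKrullDim A = n) (hr : r ≤ n)
    (hq : ringKrullDim (A ⧸ Ideal.span (Set.range f)) ≤ ((n - r : ℕ) : WithBot ℕ∞)) :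
    IsWeaklyRegular A (List.ofFn f) := by
  refine CalgB.CM3.isWeaklyRegular_of_supportDim_add_length_le
    (CycA.IntCore2.isCohenMacaulayLocalRing_of_regular A).supportDim_eq_depth _ (mem_of_mem_ofFn hf) ?_
  rw [supportDim_quot, Module.supportDim_self_eq_ringKrullDim, hn, ofList_ofFn, List.length_ofFn]
  refine (add_le_add_left hq _).trans ?_
  rw [← Nat.cast_add, Nat.sub_add_cancel hr]

theorem isQuasiRegular_of_dim (A : Type u) [CommRing A] [IsRegularLocalRing A] {r n : ℕ} (f : Fin r → A)
    (hf : ∀ j, f j ∈ maximalIdeal A) (hn : ringKrullDim A = n) (hr : r ≤ n)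
    (hq : ringKrullDim (A ⧸ Ideal.span (Set.range f)) ≤ ((n - r : ℕ) : WithBot ℕ∞)) :
    CAlgX.IsQuasiRegular f :=
  CalgB.QuasiRegular.isQuasiRegular_of_isH1Regular
    (CalgB.H1OfRegular.isH1Regular_of_isWeaklyRegular f (isWeaklyRegular_of_dim A f hf hn hr hq))

/-- The depth of the quotient. -/
theorem le_depth_quot (A : Type u) [CommRing A] [IsRegularLocalRing A] {r n d : ℕ} (f : Fin r → A)
    (hf : ∀ j, f j ∈ maximalIdeal A) (hn : ringKrullDim A = n) (hr : d + r ≤ n)
    (hq : ringKrullDim (A ⧸ Ideal.span (Set.range f)) ≤ ((n - r : ℕ) : WithBot ℕ∞))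
    (B : Type u) [CommRing B] [IsLocalRing B] (φ : A →+* B) (hφ : Function.Surjective φ)
    (hker : RingHom.ker φ = Ideal.span (Set.range f)) : (d : ℕ∞) ≤ LocCoh.depth B B := by
  let _ : Algebra A B := φ.toAlgebra
  have hlocal : IsLocalHom (algebraMap A B) := IsLocalHom.of_surjective φ hφ
  have hmap : ∀ a ∈ maximalIdeal A, algebraMap A B a ∈ maximalIdeal B := fun a ha =>
    (IsLocalRing.mem_maximalIdeal _).2 fun hu =>
      (IsLocalRing.mem_maximalIdeal a).1 ha (isUnit_of_map_unit (algebraMap A B) a hu)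
  have hreg := isWeaklyRegular_of_dim A f hf hn (by omega) hq
  have hcm0 := (CycA.IntCore2.isCohenMacaulayLocalRing_of_regular A).supportDim_eq_depth
  have hcm := Pi1A.RamSeq.cm_quot_ofList hcm0 (List.ofFn f) (mem_of_mem_ofFn hf) hreg
  have h1 := CalgB.CM3.supportDim_le_add_length (R := A) (M := A) (List.ofFn f) (mem_of_mem_ofFn hf)
  have e1 : (A ⧸ Ideal.ofList (List.ofFn f) • (⊤ : Submodule A A)) ≃ₗ[A] B := by
    refine (Submodule.quotEquivOfEq _ (LinearMap.ker (Algebra.linearMap A B)) ?_).trans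
      ((Algebra.linearMap A B).quotKerEquivOfSurjective hφ)
    rw [smul_eq_mul, Ideal.mul_top, ofList_ofFn, ← hker]
    rfl
  have h2 : (d : ℕ∞) ≤ LocCoh.depth A (A ⧸ Ideal.ofList (List.ofFn f) • (⊤ : Submodule A A)) := by
    have h3 : ((d : ℕ∞) : WithBot ℕ∞) ≤
        ((LocCoh.depth A (A ⧸ Ideal.ofList (List.ofFn f) • (⊤ : Submodule A A)) : ℕ∞) : WithBot ℕ∞) := by
      rw [← show _ = _ from hcm]
      rw [Module.supportDim_self_eq_ringKrullDim, hn, List.length_ofFn] at h1
      rcases hD : Module.supportDim A (A ⧸ Ideal.ofList (List.ofFn f) • (⊤ : Submodule A A)) with _ | x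
      · rw [hD] at h1
        rw [WithBot.none_eq_bot, WithBot.bot_add, le_bot_iff] at h1
        exact absurd h1 (WithBot.natCast_ne_bot n)
      · rw [hD] at h1
        rcases x with _ | x
        · exact le_top
        · change ((n : ℕ) : WithBot ℕ∞) ≤ ((x : ℕ) : WithBot ℕ∞) + ((r : ℕ) : WithBot ℕ∞) at h1
          have h4 : n ≤ x + r := by exact_mod_cast h1
          change ((d : ℕ) : WithBot ℕ∞) ≤ ((x : ℕ) : WithBot ℕ∞)
          exact_mod_cast (by omega : d ≤ x)
    exact_mod_cast h3
  unfold LocCoh.depth at h2 ⊢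
  rw [Ega4dB.DepthReg.le_idealDepth_iff] at h2 ⊢
  rcases h2 with h2 | ⟨rs, hlen, hm, hrs⟩
  · left
    have h3 : maximalIdeal A • (⊤ : Submodule A B) = ⊤ := by
      have h4 := congrArg (Submodule.map e1.toLinearMap) h2
      rw [Submodule.map_smul'', Submodule.map_top, LinearMap.range_eq_top.2 e1.surjective] at h4
      exact h4
    rw [eq_top_iff]
    intro x _
    have h5 : x ∈ maximalIdeal A • (⊤ : Submodule A B) := by rw [h3]; trivial
    refine Submodule.smul_induction_on h5 (fun a ha y _ => ?_) (fun y z hy hz => add_mem hy hz)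
    rw [Algebra.smul_def]
    change algebraMap A B a • y ∈ maximalIdeal B • (⊤ : Submodule B B)
    exact Submodule.smul_mem_smul (hmap a ha) Submodule.mem_top
  · right
    refine ⟨rs.map (algebraMap A B), by rw [List.length_map, hlen], ?_, ?_⟩
    · intro x hx
      obtain ⟨a, ha, rfl⟩ := List.mem_map.1 hx
      exact hmap a (hm a ha)
    · rw [isWeaklyRegular_map_algebraMap_iff]
      exact (e1.isWeaklyRegular_congr rs).1 hrs

end K575.LocAlg
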