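import Groth.Agent.LefX.K575.Mon
import Groth.Agent.Sga2lef.H83.Twist

/-!
# Frames for an ideal generated by `r` sections of a line bundle, quasi-regular

* `IsMFrame 𝓘 σ V e f`: over the affine open `V` the module `L` has the generator `e`, `σ j (1) = f j • e`, the ideal
  is generated by the `f j`, and `f` is quasi-regular.
* `HasMFrame 𝓘 σ`: every point has arbitrarily small such neighbourhoods.
-/

set_option autoImplicit false
universe u

open CategoryTheory CategoryTheory.Limits AlgebraicGeometry Opposite TopologicalSpace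

namespace K575.QFrame

open Groth.Agent Groth.Agent.Fdesc.LocGen Groth.Agent.Dix.IdealModCartier Groth.Agent.PerfB.TensExact
  Groth.Agent.FormalB.KQuot Groth.Agent.FormalB.TrKQuot Groth.Agent.Sga2lef.H83.Frame K575.Mon

variable {X : Scheme.{u}} {L : X.Modules} {r : ℕ}

/-- `V` is an affine open over which `L` has a generator `e`, `σ j (1) = f j • e` and the ideal is generated by the
quasi-regular sequence `f`. -/
structure IsMFrame (𝓘 : X.IdealSheafData) (σ : Fin r → (Coh.structureModule X ⟶ L)) (V : X.affineOpens)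
    (e : Γ(L, V.1)) (f : Fin r → Γ(X, V.1)) : Prop where
  gen : IsGen e
  eq : ∀ j, sec (σ j) V.1 = f j • e
  ideal_eq : 𝓘.ideal V = Ideal.span (Set.range f)
  qr : CAlgX.IsQuasiRegular f

/-- Frames exist on arbitrarily small neighbourhoods. -/
def HasMFrame (𝓘 : X.IdealSheafData) (σ : Fin r → (Coh.structureModule X ⟶ L)) : Prop :=
  ∀ (U : X.Opens), ∀ x ∈ U, ∃ (V : X.affineOpens) (e : Γ(L, V.1)) (f : Fin r → Γ(X, V.1)),
    x ∈ V.1 ∧ V.1 ≤ U ∧ IsMFrame 𝓘 σ V e f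

variable {𝓘 : X.IdealSheafData} {σ : Fin r → (Coh.structureModule X ⟶ L)}

/-- A section vanishing over small frames vanishes. -/
theorem eq_zero_of_frame (hσ : HasMFrame 𝓘 σ) {M : X.Modules} {U : X.Opens} (s : Γ(M, U))
    (h : ∀ (V : X.affineOpens) (hV : V.1 ≤ U) (e : Γ(L, V.1)) (f : Fin r → Γ(X, V.1)), IsMFrame 𝓘 σ V e f →
      res M hV s = 0) : s = 0 := by
  choose V e f hx hV hf using hσ U
  refine res_ext M (ι := U) (fun x => (V x.1 x.2).1) (fun x => hV x.1 x.2) ?_ ?_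
  · intro x hx'
    exact Opens.mem_iSup.2 ⟨⟨x, hx'⟩, hx x hx'⟩
  · intro x
    rw [h _ (hV x.1 x.2) _ _ (hf x.1 x.2), map_zero]

theorem hom_eq_zero_of_frame (hσ : HasMFrame 𝓘 σ) {M N : X.Modules} (φ : M ⟶ N)
    (h : ∀ (V : X.affineOpens) (e : Γ(L, V.1)) (f : Fin r → Γ(X, V.1)), IsMFrame 𝓘 σ V e f →
      ∀ m : Γ(M, V.1), φ.app V.1 m = 0) : φ = 0 := by
  apply Scheme.Modules.hom_ext
  intro U
  ext m
  change φ.app U m = 0
  refine eq_zero_of_frame hσ _ fun V hV e f hf => ?_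
  rw [← app_res]
  exact h V e f hf _

theorem hom_ext_of_frame (hσ : HasMFrame 𝓘 σ) {M N : X.Modules} (φ ψ : M ⟶ N)
    (h : ∀ (V : X.affineOpens) (e : Γ(L, V.1)) (f : Fin r → Γ(X, V.1)), IsMFrame 𝓘 σ V e f →
      ∀ m : Γ(M, V.1), φ.app V.1 m = ψ.app V.1 m) : φ = ψ := by
  rw [← sub_eq_zero]
  refine hom_eq_zero_of_frame hσ _ fun V e f hf m => ?_
  change φ.app V.1 m - ψ.app V.1 m = 0
  rw [h V e f hf, sub_self]

/-- Surjectivity on frames gives an epimorphism. -/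
theorem epi_of_frame (hσ : HasMFrame 𝓘 σ) {M N : X.Modules} (φ : M ⟶ N)
    (h : ∀ (V : X.affineOpens) (e : Γ(L, V.1)) (f : Fin r → Γ(X, V.1)), IsMFrame 𝓘 σ V e f →
      Function.Surjective (φ.app V.1)) : Epi φ := by
  refine VarietyB.ExactLoc.epi_of_stalk _ fun x => ?_
  intro m
  obtain ⟨U, hxU, s, rfl⟩ := N.presheaf.exists_germ_eq m
  obtain ⟨V, e, f, hxV, hV, hf⟩ := hσ U x hxU
  obtain ⟨k, hk⟩ := h V e f hf (res _ hV s)
  refine ⟨M.presheaf.germ V.1 x hxV k, ?_⟩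
  rw [CycB.StalkExact.stalkLin_germ, hk]
  exact VarietyB.ExactLoc.germ_res _ hV hxV s

/-- Injectivity on frames gives a monomorphism. -/
theorem mono_of_frame (hσ : HasMFrame 𝓘 σ) {M N : X.Modules} (φ : M ⟶ N)
    (h : ∀ (V : X.affineOpens) (e : Γ(L, V.1)) (f : Fin r → Γ(X, V.1)), IsMFrame 𝓘 σ V e f →
      ∀ m, φ.app V.1 m = 0 → m = 0) : Mono φ := by
  apply Preadditive.mono_of_cancel_zero
  intro Z k hk
  refine hom_eq_zero_of_frame hσ _ fun V e f hf m => h V e f hf _ ?_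
  have h1 : φ.app V.1 (k.app V.1 m) = 0 := congr(($hk).app V.1 m)
  exact h1

/-- Criterion for being the quotient by `K` on sections over frames. -/
theorem isKQuot_of_frame (hσ : HasMFrame 𝓘 σ) {K : X.IdealSheafData} {M N : X.Modules} (p : M ⟶ N)
    (hp : Epi p) (hN : ClSub.KilledByIdeal K N)
    (h : ∀ (V : X.affineOpens) (e : Γ(L, V.1)) (f : Fin r → Γ(X, V.1)), IsMFrame 𝓘 σ V e f → ∀ m : Γ(M, V.1),
      p.app V.1 m = 0 → m ∈ K.ideal V • (⊤ : Submodule Γ(X, V.1) Γ(M, V.1))) : IsKQuot K p := by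
  refine ⟨hp, hN, fun {Z} φ hφ => ?_⟩
  have hkt : kernel.ι p ≫ φ = 0 := by
    apply hom_eq_zero_of_frame hσ
    intro V e f hf m
    have h1 : p.app V.1 ((kernel.ι p).app V.1 m) = 0 := by
      have := congr(($(kernel.condition p)).app V.1 m)
      exact this
    exact app_eq_zero_of_mem φ hφ V _ (h V e f hf _ h1)
  exact ⟨Abelian.epiDesc p φ hkt, Abelian.comp_epiDesc p φ hkt⟩

section

variable {V : X.affineOpens} {e : Γ(L, V.1)} {f : Fin r → Γ(X, V.1)} (h : IsMFrame 𝓘 σ V e f)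
include h

theorem IsMFrame.pow_eq (n : ℕ) : (𝓘 ^ n).ideal V = Ideal.span (Set.range f) ^ n := by
  rw [Scheme.IdealSheafData.ideal_pow, Pi.pow_apply, h.ideal_eq]

theorem IsMFrame.mem_pow_smul_iff {G : X.Modules} (n : ℕ) (g : Γ(G, V.1)) :
    g ∈ (𝓘 ^ n).ideal V • (⊤ : Submodule Γ(X, V.1) Γ(G, V.1)) ↔
      ∃ g' : Mn r n → Γ(G, V.1), g = ∑ d, mon f d.1 • g' d := by
  rw [h.pow_eq]
  exact Mon.mem_pow_smul_iff f n g

theorem IsMFrame.mem_smul_iff {G : X.Modules} (g : Γ(G, V.1)) :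
    g ∈ 𝓘.ideal V • (⊤ : Submodule Γ(X, V.1) Γ(G, V.1)) ↔ ∃ g' : Fin r → Γ(G, V.1), g = ∑ j, f j • g' j := by
  rw [h.ideal_eq]
  exact Mon.mem_span_smul_iff f g

theorem IsMFrame.mem (j : Fin r) : f j ∈ 𝓘.ideal V := by
  rw [h.ideal_eq]
  exact Ideal.subset_span ⟨j, rfl⟩

theorem IsMFrame.mon_mem {n : ℕ} (d : Mn r n) : mon f d.1 ∈ (𝓘 ^ n).ideal V := by
  rw [h.pow_eq]
  exact Mon.mon_mem f n d

theorem IsMFrame.sMul_app {G : X.Modules} (j : Fin r) (g : Γ(G, V.1)) :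
    ((sMul (σ j)).app G).app V.1 g = tmul (f j • g) e := by
  rw [Sga2lef.H83.Frame.sMul_app, h.eq, tmul_smul, smul_tmul]

theorem IsMFrame.exists_eq_tmul {G : X.Modules} (s : Γ((DCoh.tensorRightMod L).obj G, V.1)) :
    ∃ g : Γ(G, V.1), s = tmul g e :=
  Ega2.TensGen.exists_eq_tmul h.gen s

end

end K575.QFrame
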