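import Groth.Agent.LefX.K575.Forms
import Groth.Agent.LefX.K575.FormSec
import Groth.Agent.LefX.K575.LocAlg
import Groth.Agent.LefX.K575.QFrame
import Groth.Agent.Fga.DimCut
import Groth.Agent.Sga2.EszAmple
import Groth.Agent.Sga2lef.H298.VanX0Core
import Groth.Agent.Sga2lef.H83.Alg
import Groth.Agent.CurvesB.DimPts
import Groth.Agent.S0002

/-!
# Complete intersections in a regular projective variety: frames, depth, vanishing
-/

set_option autoImplicit false
universe u

open CategoryTheory AlgebraicGeometry Limits TopologicalSpace Opposite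

namespace K575.Geo

open LefPen Groth.Agent Groth.Agent.Divis.IdealComap Groth.Agent.Fdesc.LocGen Groth.Agent.Lefpen.H705.HypIdeal
  Groth.Agent.Lefpen.H705.SecIdeal Groth.Agent.Lefpen.H608.TwistTriv Groth.Agent.Divis.CartierBasic
  Groth.Agent.Divis.CartierStalk K575.Forms K575.FormSec K575.LocAlg K575.QFrame

variable {N : ℕ} {k : Type u} [Field k] {X : Scheme.{u}} (ι : X ⟶ CohB1.ProjSpace N k) {r c : ℕ}
  (H : Fin r → Form N k c)

theorem sec_range : secIdeal ι (Set.range H) = (ciIdeal (fun j => H j)).comap ι := by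
  rw [secIdeal, iSup_range]
  rfl

theorem dim_subscheme_le (𝓘 : X.IdealSheafData) :
    topologicalKrullDim 𝓘.subscheme ≤ topologicalKrullDim (𝓘.support : Set X) := by
  have hex : ∀ z : 𝓘.subscheme, 𝓘.subschemeι z ∈ (𝓘.support : Set X) := fun z => by
    have h1 : 𝓘.subschemeι z ∈ Set.range 𝓘.subschemeι := ⟨z, rfl⟩
    rwa [𝓘.range_subschemeι] at h1
  let g : 𝓘.subscheme → (𝓘.support : Set X) := fun z => ⟨𝓘.subschemeι z, hex z⟩
  have h1 : Topology.IsInducing (Subtype.val ∘ g) := 𝓘.subschemeι.isEmbedding.isInducing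
  exact (Topology.IsInducing.subtypeVal.of_comp_iff.mp h1).topologicalKrullDim_le

theorem image_range_stalkEqn (i : Fin (N + 1)) (x : X) (hx : ι x ∈ chart N k i) :
    stalkEqn ι i x hx '' Set.range H = Set.range fun j => stalkEqn ι i x hx (H j) := by
  rw [← Set.range_comp]
  rfl

/-- The dimension of the quotient of the local ring by the equations. -/
theorem dim_quot_le (i : Fin (N + 1)) (x : X) (hx : ι x ∈ chart N k i)
    (hxs : x ∈ (secIdeal ι (Set.range H)).support) (m : ℕ)
    (hm : topologicalKrullDim ((secIdeal ι (Set.range H)).support : Set X) ≤ (m : WithBot ℕ∞)) :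
    ringKrullDim (X.presheaf.stalk x ⧸ Ideal.span (Set.range fun j => stalkEqn ι i x hx (H j))) ≤
      (m : WithBot ℕ∞) := by
  obtain ⟨y, rfl⟩ := exists_subscheme_apply_eq _ hxs
  have hker := ker_stalkMap_secι ι (Set.range H) y i hx
  rw [image_range_stalkEqn] at hker
  have e := RingHom.quotientKerEquivOfSurjective (stalkMap_secι_surjective ι (Set.range H) y)
  have h1 := ringKrullDim_eq_of_ringEquiv ((Ideal.quotEquivOfEq hker.symm).trans e)
  rw [h1]
  exact (CurvesB.DimPts.ringKrullDim_stalk_le y).trans ((dim_subscheme_le _).trans hm)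

section Closed

variable [X.Over (Spec (CommRingCat.of k))] [LocallyOfFiniteType (X ↘ (Spec (CommRingCat.of k)))]

include k in
theorem jacobson : JacobsonSpace X := LocallyOfFiniteType.jacobsonSpace (X ↘ (Spec (CommRingCat.of k)))

include k in
theorem isClosed_fromSpec {V : X.Opens} (hV : IsAffineOpen V) (y : PrimeSpectrum Γ(X, V))
    (hy : y.asIdeal.IsMaximal) : IsClosed ({hV.fromSpec y} : Set X) := by
  have := jacobson (k := k) (X := X)
  apply isClosed_singleton_of_isLocallyClosed_singleton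
  have h1 : IsClosed ({y} : Set (PrimeSpectrum Γ(X, V))) := (PrimeSpectrum.isClosed_singleton_iff_isMaximal y).2 hy
  have h2 := h1.isLocallyClosed.image hV.fromSpec.isOpenEmbedding.isInducing
    hV.fromSpec.isOpenEmbedding.isOpen_range.isLocallyClosed
  have h3 : (hV.fromSpec '' ({y} : Set (PrimeSpectrum Γ(X, V)))) = ({hV.fromSpec y} : Set X) := Set.image_singleton
  rw [← h3]
  exact h2

variable [IsIntegral X] (hreg : ∀ x : X, IsRegularLocalRing (X.presheaf.stalk x)) {n : ℕ}
  (hdim : topologicalKrullDim X = n) (hrn : r ≤ n)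
  (hY : topologicalKrullDim ((secIdeal ι (Set.range H)).support : Set X) ≤ ((n - r : ℕ) : WithBot ℕ∞))

include k in
theorem closed_dim (hdim : topologicalKrullDim X = n) (x : X) (hx : IsClosed ({x} : Set X)) :
    ringKrullDim (X.presheaf.stalk x) = n :=
  (Fga.DimCut.ringKrullDim_stalk_eq (k := k) X x hx).trans hdim

include hreg hdim hrn hY in
/-- The equations are quasi-regular on affine opens. -/
theorem isQuasiRegular_eqn (i : Fin (N + 1)) {V : X.Opens} (hV : IsAffineOpen V) (hVi : V ≤ ι ⁻¹ᵁ chart N k i) :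
    CAlgX.IsQuasiRegular fun j => eqn ι i V hVi (H j) := by
  refine isQuasiRegular_of_local _ fun 𝔪 h𝔪 hm => ?_
  let y : PrimeSpectrum Γ(X, V) := ⟨𝔪, inferInstance⟩
  have hx' : hV.fromSpec y ∈ V := by
    have h1 : hV.fromSpec y ∈ Set.range hV.fromSpec := ⟨y, rfl⟩
    rwa [hV.range_fromSpec] at h1
  have hcl := isClosed_fromSpec (k := k) hV y h𝔪
  have hloc := hV.isLocalization_stalk' y hx'
  let _ : Algebra Γ(X, V) (X.presheaf.stalk (hV.fromSpec y)) :=
    TopCat.Presheaf.algebra_section_stalk X.presheaf ⟨hV.fromSpec y, hx'⟩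
  have hloc' : IsLocalization.AtPrime (X.presheaf.stalk (hV.fromSpec y)) 𝔪 := hloc
  refine ⟨X.presheaf.stalk (hV.fromSpec y), inferInstance, inferInstance, hloc, ?_⟩
  have hreg' := hreg (hV.fromSpec y)
  have hfam : ∀ j, algebraMap Γ(X, V) (X.presheaf.stalk (hV.fromSpec y)) (eqn ι i V hVi (H j)) =
      stalkEqn ι i (hV.fromSpec y) (hVi hx') (H j) := fun j => germ_eqn ι i V hVi (hV.fromSpec y) hx' (H j)
  simp_rw [hfam]
  have hmem : ∀ j, stalkEqn ι i (hV.fromSpec y) (hVi hx') (H j) ∈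
      IsLocalRing.maximalIdeal (X.presheaf.stalk (hV.fromSpec y)) := fun j => by
    rw [← hfam j]
    exact (IsLocalization.AtPrime.to_map_mem_maximal_iff (X.presheaf.stalk (hV.fromSpec y)) 𝔪 _).2
      (hm (Ideal.subset_span ⟨j, rfl⟩))
  have hsupp : hV.fromSpec y ∈ (secIdeal ι (Set.range H)).support := by
    rw [mem_support_secIdeal_iff ι _ i _ (hVi hx')]
    rintro _ ⟨j, rfl⟩
    exact hmem j
  exact isQuasiRegular_of_dim (X.presheaf.stalk (hV.fromSpec y)) _ hmem (closed_dim (k := k) hdim _ hcl) hrn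
    (dim_quot_le ι H i _ (hVi hx') hsupp _ hY)

include hreg hdim hrn hY in
theorem hasMFrame : HasMFrame ((ciIdeal fun j => H j).comap ι) (fun j => σF ι (H j)) := by
  intro U x hxU
  have h0 : x ∈ ⨆ i, ι ⁻¹ᵁ chart N k i := by rw [iSup_preimage_chart]; trivial
  obtain ⟨i, hi⟩ := Opens.mem_iSup.mp h0
  obtain ⟨V, hV, hxV, hle⟩ := exists_isAffineOpen_mem_and_subset (U := U ⊓ ι ⁻¹ᵁ chart N k i) (x := x) ⟨hxU, hi⟩
  have hVi : V ≤ ι ⁻¹ᵁ chart N k i := fun z hz => (hle hz).2
  exact ⟨⟨V, hV⟩, eF ι c i hVi, fun j => eqn ι i V hVi (H j), hxV, fun z hz => (hle hz).1, isGen_eF ι i hVi,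
    fun j => sec_σF ι (H j) i hVi, ci_ideal_of_le ι (fun j => H j) i ⟨V, hV⟩ hVi,
    isQuasiRegular_eqn ι H hreg hdim hrn hY i hV hVi⟩

include hreg hdim hY in
/-- The depth of the local rings of the section at the closed points. -/
theorem le_depth (d : ℕ) (hd : d + r ≤ n) (y : Sec ι (Set.range H)) (hy : IsClosed ({y} : Set (Sec ι (Set.range H)))) :
    (d : ℕ∞) ≤ LocCoh.depth ((Sec ι (Set.range H)).presheaf.stalk y) ((Sec ι (Set.range H)).presheaf.stalk y) := by
  have h0 : secι ι (Set.range H) y ∈ ⨆ i, ι ⁻¹ᵁ chart N k i := by rw [iSup_preimage_chart]; trivial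
  obtain ⟨i, hi⟩ := Opens.mem_iSup.mp h0
  replace hi : ι (secι ι (Set.range H) y) ∈ chart N k i := hi
  have hcl : IsClosed ({secι ι (Set.range H) y} : Set X) := by
    have h1 := (secι ι (Set.range H)).isClosedEmbedding.isClosedMap _ hy
    have h2 : ((secι ι (Set.range H)) '' ({y} : Set (Sec ι (Set.range H)))) = ({secι ι (Set.range H) y} : Set X) :=
      Set.image_singleton
    rw [← h2]
    exact h1
  have hsupp : secι ι (Set.range H) y ∈ (secIdeal ι (Set.range H)).support := subschemeι_mem_support _ y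
  have hreg' := hreg (secι ι (Set.range H) y)
  have hker := ker_stalkMap_secι ι (Set.range H) y i hi
  rw [image_range_stalkEqn] at hker
  refine le_depth_quot (X.presheaf.stalk (secι ι (Set.range H) y))
    (fun j => stalkEqn ι i (secι ι (Set.range H) y) hi (H j)) (fun j => ?_) (closed_dim (k := k) hdim _ hcl) hd
    (dim_quot_le ι H i _ hi hsupp _ hY) _ ((secι ι (Set.range H)).stalkMap y).hom
    (stalkMap_secι_surjective ι (Set.range H) y) hker
  exact (mem_support_secIdeal_iff ι _ i _ hi).1 hsupp _ ⟨j, rfl⟩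

end Closed

/-- Vanishing for finite locally free modules on a closed subscheme. -/
theorem van [X.Over (Spec (CommRingCat.of k))] [IsProper (X ↘ (Spec (CommRingCat.of k)))] (𝓘 : X.IdealSheafData)
    {L P : X.Modules} (hLP : ClSub.IsInverseOf L P) (hamp : CohB1.IsAmple L)
    (hd : ∀ y : 𝓘.subscheme, IsClosed ({y} : Set 𝓘.subscheme) →
      ((2 : ℕ) : ℕ∞) ≤ LocCoh.depth (𝓘.subscheme.presheaf.stalk y) (𝓘.subscheme.presheaf.stalk y))
    (E : 𝓘.subscheme.Modules) (hE : FlatMod.IsFinLocFree E) :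
    Sga2lef.H83.Alg.Van P ((Scheme.Modules.pushforward 𝓘.subschemeι).obj E) := by
  let _ : 𝓘.subscheme.Over (Spec (CommRingCat.of k)) := ⟨𝓘.subschemeι ≫ (X ↘ Spec (CommRingCat.of k))⟩
  have : IsProper (𝓘.subscheme ↘ Spec (CommRingCat.of k)) :=
    inferInstanceAs (IsProper (𝓘.subschemeι ≫ (X ↘ Spec (CommRingCat.of k))))
  obtain ⟨m₀, h⟩ := Sga2.EszAmple.esz_of_finite k 𝓘.subscheme
    (Sga2lef.H298.VanX0Core.isInverseOf_pullback 𝓘.subschemeι hLP)
    (CohqB.AmpCocycle.isAmple_pullback 𝓘.subschemeι hamp)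
    (fun M hM p => Groth.Agent.S0002.result k 𝓘.subscheme M hM p) E (PerfA.CohSerre.isCoh_of_isFinLocFree hE) 1
    (fun x hx => by
      obtain ⟨h2, -⟩ := Dcoh.StalkFF.FF_of_isFinLocFree hE x
      refine lt_of_lt_of_le ?_ (Sga2lef.H298.VanX0Core.depth_self_le_of_free _ _)
      exact lt_of_lt_of_le (b := ((2 : ℕ) : ℕ∞)) (by norm_num) (hd x hx))
  exact ⟨m₀, fun m hm j hj => Sga2lef.H298.VanX0Core.vanish_pushforward 𝓘.subschemeι
    (Dix.IdealModCartier.isInvertible_of_isInverseOf hLP).2 E m j (h m hm j hj)⟩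

end K575.Geo
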