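import Groth.Agent.Sga2lef.H100.GrTower

set_option autoImplicit false

/-!
# Uniform Mittag-Leffler for towers with operators

A variant of `Sga2lef.H100.GrTower.Tower` in which the operators `μ`, `ν` do not come from elements of the ring: only
`π ∘ μ = μ ∘ π` is required.  `Tower.exists_lift`: there is `n₁` such that every finite compatible family up to level
`L` agrees with an infinite one up to level `L - n₁`.
-/

namespace K575.LTower

open Submodule Groth.Agent.FormalB.TowerAlg Groth.Agent.Sga2lef.H100.GrTower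

/-- The data of the towers. -/
structure Tower (A : Type*) [CommRing A] (ι : Type*)
    (P : ℕ → Type*) [∀ n, AddCommGroup (P n)] [∀ n, Module A (P n)]
    (Q : ℕ → Type*) [∀ n, AddCommGroup (Q n)] [∀ n, Module A (Q n)] (N : ℕ) where
  π : ∀ n, P (n + 1) →ₗ[A] P n
  μ : ∀ (_ : ι) n, P n →ₗ[A] P (n + 1)
  ν : ∀ (_ : ι) n, Q n →ₗ[A] Q (n + 1)
  δ : ∀ n, P n →ₗ[A] Q (n + 1)
  πμ0 : ∀ i x, π 0 (μ i 0 x) = 0
  πμ : ∀ i n x, π (n + 1) (μ i (n + 1) x) = μ i n (π n x)
  ν_comm : ∀ i j n x, ν i (n + 1) (ν j n x) = ν j (n + 1) (ν i n x)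
  δμ : ∀ i n x, δ (n + 1) (μ i n x) = ν i (n + 1) (δ n x)
  ex : ∀ n x, δ n x = 0 → ∃ y, π n y = x
  finQ : ∀ n, Module.Finite A (Q n)
  genQ : ∀ n, N ≤ n → (⊤ : Submodule A (Q (n + 1))) ≤ ⨆ i, LinearMap.range (ν i n)

namespace Tower

variable {A : Type*} [CommRing A] {ι : Type*}
    {P : ℕ → Type*} [∀ n, AddCommGroup (P n)] [∀ n, Module A (P n)]
    {Q : ℕ → Type*} [∀ n, AddCommGroup (Q n)] [∀ n, Module A (Q n)] {N : ℕ} (T : Tower A ι P Q N)

theorem map_W (i : ι) (L c : ℕ) : (W T.π L c).map (T.μ i L) ≤ W T.π (L + 1) (c + 1) := by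
  rintro _ ⟨t, ht, rfl⟩
  obtain ⟨z, h1, h2, h3⟩ := (mem_W T.π L c t).1 ht
  rw [mem_W]
  let z' : ∀ k, P k := fun k => Nat.casesOn k 0 (fun k => T.μ i k (z k))
  have hz0 : z' 0 = 0 := rfl
  have hzs : ∀ k, z' (k + 1) = T.μ i k (z k) := fun k => rfl
  refine ⟨z', ?_, ?_, ?_⟩
  · intro k hk
    cases k with
    | zero => rw [hzs, hz0, T.πμ0]
    | succ k => rw [hzs, hzs, T.πμ, h1 k (by omega)]
  · intro k hk hk'
    cases k with
    | zero => exact hz0
    | succ k => rw [hzs, h2 k (by omega) (by omega), map_zero]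
  · rw [hzs, h3]

/-- the images of the connecting maps. -/
def B : ∀ n, Submodule A (Q n)
  | 0 => ⊥
  | n + 1 => LinearMap.range (T.δ n)

theorem map_B (i : ι) (n : ℕ) : (T.B n).map (T.ν i n) ≤ T.B (n + 1) := by
  cases n with
  | zero => rw [B, Submodule.map_bot]; exact bot_le
  | succ n =>
    rintro _ ⟨_, ⟨x, rfl⟩, rfl⟩
    exact ⟨T.μ i n x, T.δμ i n x⟩

theorem range_δ_le (n₁ : ℕ)
    (h : ∀ n, n₁ ≤ n → T.B (n + 1) ≤ ⨆ i, (T.B n).map (T.ν i n)) (c : ℕ) :
    ∀ L, 1 ≤ n₁ → n₁ + c ≤ L + 1 → LinearMap.range (T.δ L) ≤ (W T.π L c).map (T.δ L) := by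
  induction c with
  | zero =>
    intro L _ _
    rw [W_zero, Submodule.map_top]
  | succ c ih =>
    intro L hn hL
    obtain ⟨L, rfl⟩ : ∃ L', L = L' + 1 := ⟨L - 1, by omega⟩
    refine (h (L + 1) (by omega)).trans (iSup_le fun i => ?_)
    rintro _ ⟨x, hx, rfl⟩
    obtain ⟨t, ht, rfl⟩ := ih L hn (by omega) hx
    refine ⟨T.μ i L t, T.map_W i L c ⟨t, ht, rfl⟩, T.δμ i L t⟩

theorem exists_extend (n₁ : ℕ) (hn : 1 ≤ n₁)
    (h : ∀ n, n₁ ≤ n → T.B (n + 1) ≤ ⨆ i, (T.B n).map (T.ν i n)) (L : ℕ) (z : ∀ n, P n)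
    (hz : z ∈ comp T.π L) : ∃ w ∈ comp T.π (L + 1), ∀ k, k + n₁ ≤ L → w k = z k := by
  rcases Nat.lt_or_ge (L + 1) n₁ with h' | h'
  · exact ⟨0, Submodule.zero_mem _, fun k hk => by omega⟩
  obtain ⟨t, ht, htz⟩ := T.range_δ_le n₁ h (L + 1 - n₁) L hn (by omega) ⟨z L, rfl⟩
  obtain ⟨y, h1, h2, h3⟩ := (mem_W T.π L _ t).1 ht
  obtain ⟨s, hs⟩ := T.ex L (z L - t) (by rw [map_sub, htz, sub_self])
  obtain ⟨w, hw, hws⟩ := exists_comp T.π (L + 1) s
  refine ⟨w, hw, fun k hk => ?_⟩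
  have h4 : w L = (z - y) L := by
    rw [← hw L (by omega), hws, hs, Pi.sub_apply, h3]
  rw [eq_of_comp (comp_mono (Nat.le_succ L) hw) (sub_mem hz h1) h4 k (by omega), Pi.sub_apply,
    h2 k (by omega) (by omega), sub_zero]

theorem exists_stable [IsNoetherianRing A] [Finite ι] :
    ∃ n₁ : ℕ, 1 ≤ n₁ ∧ ∀ n, n₁ ≤ n → T.B (n + 1) ≤ ⨆ i, (T.B n).map (T.ν i n) := by
  obtain ⟨n₁, h⟩ := Groth.Agent.FormalB.GrAlg.exists_generated_submodule T.ν T.ν_comm T.finQ
    ⟨N, fun n hn => T.genQ n hn⟩ T.B T.map_B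
  exact ⟨n₁ + 1, by omega, fun n hn => h n (by omega)⟩

/-- **Uniform Mittag-Leffler.** -/
theorem exists_lift [IsNoetherianRing A] [Finite ι] : ∃ n₁ : ℕ, ∀ (L : ℕ) (z : ∀ n, P n),
    (∀ k, k < L → T.π k (z (k + 1)) = z k) →
      ∃ w : ∀ n, P n, (∀ n, T.π n (w (n + 1)) = w n) ∧ ∀ k, k + n₁ ≤ L → w k = z k := by
  classical
  obtain ⟨n₁, hn, h⟩ := T.exists_stable
  refine ⟨n₁, fun L z hz => ?_⟩
  choose! nx hnx1 hnx2 using T.exists_extend n₁ hn h
  let Z : ∀ j, {w : ∀ n, P n // w ∈ comp T.π (L + j)} := fun j =>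
    Nat.rec ⟨z, hz⟩ (fun j w => ⟨nx (L + j) w.1, hnx1 (L + j) w.1 w.2⟩) j
  have hZ : ∀ j k, k + n₁ ≤ L + j → (Z (j + 1)).1 k = (Z j).1 k := fun j =>
    hnx2 (L + j) (Z j).1 (Z j).2
  have hZ' : ∀ j j' k, j ≤ j' → k + n₁ ≤ L + j → (Z j').1 k = (Z j).1 k := by
    intro j j' k hj hk
    induction j', hj using Nat.le_induction with
    | base => rfl
    | succ j' hj ih => rw [hZ j' k (by omega), ih]
  refine ⟨fun k => (Z (k + n₁)).1 k, fun k => ?_, fun k hk => ?_⟩
  · change T.π k ((Z (k + 1 + n₁)).1 (k + 1)) = (Z (k + n₁)).1 k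
    rw [(Z (k + 1 + n₁)).2 k (by omega)]
    exact hZ' (k + n₁) (k + 1 + n₁) k (by omega) (by omega)
  · exact hZ' 0 (k + n₁) k (by omega) (by omega)

end Tower

/-! ### Bigraded towers -/

/-- A tower in which every level is graded by `m : ℕ` and the operators have degree `1`. -/
structure BiTower (A : Type*) [CommRing A] (ι : Type*)
    (P : ℕ → ℕ → Type*) [∀ n m, AddCommGroup (P n m)] [∀ n m, Module A (P n m)]
    (Q : ℕ → ℕ → Type*) [∀ n m, AddCommGroup (Q n m)] [∀ n m, Module A (Q n m)] (N : ℕ) where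
  π : ∀ n m, P (n + 1) m →ₗ[A] P n m
  μ : ∀ (_ : ι) n m, P n m →ₗ[A] P (n + 1) (m + 1)
  ν : ∀ (_ : ι) n m, Q n m →ₗ[A] Q (n + 1) (m + 1)
  δ : ∀ n m, P n m →ₗ[A] Q (n + 1) m
  πμ0 : ∀ i m x, π 0 (m + 1) (μ i 0 m x) = 0
  πμ : ∀ i n m x, π (n + 1) (m + 1) (μ i (n + 1) m x) = μ i n m (π n m x)
  ν_comm : ∀ i j n m x, ν i (n + 1) (m + 1) (ν j n m x) = ν j (n + 1) (m + 1) (ν i n m x)
  δμ : ∀ i n m x, δ (n + 1) (m + 1) (μ i n m x) = ν i (n + 1) m (δ n m x)
  ex : ∀ n m x, δ n m x = 0 → ∃ y, π n m y = x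
  finQ : ∀ n m, Module.Finite A (Q n m)
  zeroQ : ∀ n, ∃ m₀, ∀ m, m₀ ≤ m → Subsingleton (Q n m)
  genQ0 : ∀ n, N ≤ n → Subsingleton (Q (n + 1) 0)
  genQ : ∀ n m, N ≤ n → ∀ y : Q (n + 1) (m + 1), ∃ x : ι → Q n m, y = ∑ᶠ i, ν i n m (x i)

namespace BiTower

variable {A : Type*} [CommRing A] {ι : Type*}
    {P : ℕ → ℕ → Type*} [∀ n m, AddCommGroup (P n m)] [∀ n m, Module A (P n m)]
    {Q : ℕ → ℕ → Type*} [∀ n m, AddCommGroup (Q n m)] [∀ n m, Module A (Q n m)] {N : ℕ}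
    (T : BiTower A ι P Q N)

/-- The shift of a family of maps of degree one. -/
def shift {R S : ℕ → Type*} [∀ m, AddCommGroup (R m)] [∀ m, Module A (R m)]
    [∀ m, AddCommGroup (S m)] [∀ m, Module A (S m)] (f : ∀ m, R m →ₗ[A] S (m + 1)) :
    (∀ m, R m) →ₗ[A] (∀ m, S m) where
  toFun x m := Nat.casesOn m 0 fun m => f m (x m)
  map_add' x y := by
    funext m
    cases m with
    | zero => exact (add_zero (0 : S 0)).symm
    | succ m => exact map_add (f m) _ _
  map_smul' a x := by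
    funext m
    cases m with
    | zero => exact (smul_zero (A := S 0) a).symm
    | succ m => exact map_smul (f m) _ _

theorem shift_zero {R S : ℕ → Type*} [∀ m, AddCommGroup (R m)] [∀ m, Module A (R m)]
    [∀ m, AddCommGroup (S m)] [∀ m, Module A (S m)] (f : ∀ m, R m →ₗ[A] S (m + 1)) (x : ∀ m, R m) :
    shift f x 0 = 0 := rfl

theorem shift_succ {R S : ℕ → Type*} [∀ m, AddCommGroup (R m)] [∀ m, Module A (R m)]
    [∀ m, AddCommGroup (S m)] [∀ m, Module A (S m)] (f : ∀ m, R m →ₗ[A] S (m + 1)) (x : ∀ m, R m)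
    (m : ℕ) : shift f x (m + 1) = f m (x m) := rfl

/-- A finite product of which almost all factors vanish is finite. -/
theorem finite_pi {R : ℕ → Type*} [∀ m, AddCommGroup (R m)] [∀ m, Module A (R m)]
    (h : ∀ m, Module.Finite A (R m)) (m₀ : ℕ) (h0 : ∀ m, m₀ ≤ m → Subsingleton (R m)) :
    Module.Finite A (∀ m, R m) := by
  let e : (∀ m, R m) →ₗ[A] (∀ m : Fin m₀, R m) :=
    { toFun := fun x m => x m
      map_add' := fun _ _ => rfl
      map_smul' := fun _ _ => rfl }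
  have he : Function.Injective e := by
    intro x y hxy
    funext m
    rcases Nat.lt_or_ge m m₀ with h | h
    · exact congrFun hxy ⟨m, h⟩
    · have := h0 m h
      exact Subsingleton.elim _ _
  have he' : Function.Surjective e := by
    classical
    intro y
    refine ⟨fun m => if h : m < m₀ then y ⟨m, h⟩ else 0, ?_⟩
    funext m
    exact dif_pos m.2
  exact Module.Finite.equiv (LinearEquiv.ofBijective e ⟨he, he'⟩).symm

/-- The tower of products. -/
def toTower [Finite ι] : Tower A ι (fun n => ∀ m, P n m) (fun n => ∀ m, Q n m) N where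
  π n := LinearMap.pi fun m => (T.π n m).comp (LinearMap.proj m)
  μ i n := shift (T.μ i n)
  ν i n := shift (T.ν i n)
  δ n := LinearMap.pi fun m => (T.δ n m).comp (LinearMap.proj m)
  πμ0 i x := by
    funext m
    cases m with
    | zero => exact map_zero (T.π 0 0)
    | succ m => exact T.πμ0 i m (x m)
  πμ i n x := by
    funext m
    cases m with
    | zero => exact map_zero (T.π (n + 1) 0)
    | succ m => exact T.πμ i n m (x m)
  ν_comm i j n x := by
    funext m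
    cases m with
    | zero => rfl
    | succ m =>
      cases m with
      | zero => exact (map_zero (T.ν i (n + 1) 0)).trans (map_zero (T.ν j (n + 1) 0)).symm
      | succ m => exact T.ν_comm i j n m (x m)
  δμ i n x := by
    funext m
    cases m with
    | zero => exact map_zero (T.δ (n + 1) 0)
    | succ m => exact T.δμ i n m (x m)
  ex n x hx := by
    choose y hy using fun m => T.ex n m (x m) (congrFun hx m)
    exact ⟨y, funext hy⟩
  finQ n := by
    obtain ⟨m₀, h⟩ := T.zeroQ n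
    exact finite_pi (T.finQ n) m₀ h
  genQ n hn := by
    classical
    cases nonempty_fintype ι
    intro y _
    have := T.genQ0 n hn
    choose x hx using fun m => T.genQ n m hn (y (m + 1))
    have hy : y = ∑ i, shift (T.ν i n) (fun m => x m i) := by
      funext m
      rw [Finset.sum_apply]
      cases m with
      | zero => exact Subsingleton.elim _ _
      | succ m =>
        rw [hx m, finsum_eq_sum_of_fintype]
        rfl
    rw [hy]
    exact Submodule.sum_mem _ fun i _ => Submodule.mem_iSup_of_mem i ⟨_, rfl⟩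

/-- **Uniform Mittag-Leffler for bigraded towers.** -/
theorem exists_lift [IsNoetherianRing A] [Finite ι] : ∃ n₁ : ℕ, ∀ (m L : ℕ) (z : ∀ n, P n m),
    (∀ k, k < L → T.π k m (z (k + 1)) = z k) →
      ∃ w : ∀ n, P n m, (∀ n, T.π n m (w (n + 1)) = w n) ∧ ∀ k, k + n₁ ≤ L → w k = z k := by
  classical
  obtain ⟨n₁, h⟩ := T.toTower.exists_lift
  refine ⟨n₁, fun m L z hz => ?_⟩
  obtain ⟨w, hw1, hw2⟩ := h L (fun n => Pi.single m (z n)) (fun k hk => by
    funext m'
    change T.π k m' (Pi.single (M := fun m => P (k + 1) m) m (z (k + 1)) m') =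
      Pi.single (M := fun m => P k m) m (z k) m'
    by_cases hm : m' = m
    · subst hm
      rw [Pi.single_eq_same, Pi.single_eq_same, hz k hk]
    · rw [Pi.single_eq_of_ne hm, Pi.single_eq_of_ne hm, map_zero])
  refine ⟨fun n => w n m, fun n => congrFun (hw1 n) m, fun k hk => ?_⟩
  have h1 := congrFun (hw2 k hk) m
  exact h1.trans (Pi.single_eq_same (M := fun m => P k m) m (z k))

end BiTower

end K575.LTower
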