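import Groth.Agent.LefX.K575.Geo
import Groth.Agent.Lef.K184.CdLef
import Groth.Agent.Pi1C.LefFinal
import Groth.Agent.S0010

/-!
# The Lefschetz condition for complete intersections in a regular projective variety
-/

set_option autoImplicit false
universe u

open CategoryTheory AlgebraicGeometry Limits TopologicalSpace Opposite

namespace K575.LefCI

open LefPen Groth.Agent Groth.Agent.Fdesc.LocGen Groth.Agent.Lefpen.H705.HypIdeal
  Groth.Agent.Lefpen.H705.SecIdeal Groth.Agent.Lefpen.H608.TwistTriv K575.Forms K575.FormSec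

variable {N : ℕ} {k : Type u} [Field k] {X : Scheme.{u}} (ι : X ⟶ CohB1.ProjSpace N k) {r : ℕ} {a : Fin r → ℕ}
  (G : ∀ j, Form N k (a j))

theorem mem_support_iff (x : X) : x ∈ ((ciIdeal G).comap ι).support ↔
    ∀ j, x ∉ CohB1.genLocus (tw ι (a j : ℤ)) (σF ι (G j)) := by
  have h0 : x ∈ ⨆ i, ι ⁻¹ᵁ chart N k i := by rw [iSup_preimage_chart]; trivial
  obtain ⟨i, hi⟩ := Opens.mem_iSup.mp h0
  obtain ⟨V, hV, hxV, hle⟩ := exists_isAffineOpen_mem_and_subset (U := ι ⁻¹ᵁ chart N k i) (x := x) hi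
  have hVi : V ≤ ι ⁻¹ᵁ chart N k i := hle
  rw [Scheme.IdealSheafData.mem_support_iff_of_mem (U := ⟨V, hV⟩) hxV, ci_ideal_of_le ι G i ⟨V, hV⟩ hVi,
    Scheme.zeroLocus_span, Scheme.mem_zeroLocus_iff, Set.forall_mem_range]
  refine forall_congr' fun j => not_congr ?_
  have h1 := genLocus_inf_eq (σF ι (G j)) (isGen_eF (a := a j) ι i hVi) (sec_σF ι (G j) i hVi)
  rw [← h1]
  exact ⟨fun h => h.1, fun h => ⟨h, hxV⟩⟩

theorem vanish (f : X ⟶ Spec (CommRingCat.of k)) [IsProper f] [IsAffineHom ι] (ha : ∀ j, 1 ≤ a j) (U : X.Opens)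
    (hU : (U : Set X) = (((ciIdeal G).comap ι).support : Set X)ᶜ)
    (F : (U : Scheme.{u}).Modules) (hF : Coh.IsQCoh F) (i : ℕ) (hi : r ≤ i) : Subsingleton (Coh.HH U F i) := by
  let V : Fin r → X.Opens := fun j => CohB1.genLocus (tw ι (a j : ℤ)) (σF ι (G j))
  have hV : ∀ j, IsAffineOpen (V j) := fun j => Pi1C.LefFinal.isAffineOpen_genLocus f (isAmple_tw ι (ha j)) (σF ι (G j))
  have hVU : ∀ j, V j ≤ U := by
    intro j x hx
    change x ∈ (U : Set X)
    rw [hU]
    exact fun h => (mem_support_iff ι G x).1 h j hx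
  have hsep : (U : Scheme.{u}).IsSeparated := by
    have : IsSeparated (U.ι ≫ f) := inferInstance
    exact ⟨by
      have h1 : terminal.from (U : Scheme.{u}) = (U.ι ≫ f) ≫ terminal.from _ := by
        apply terminal.hom_ext
      rw [h1]
      infer_instance⟩
  have := hF
  refine S0010.result U r (fun j => U.ι ⁻¹ᵁ V j) (fun j => ?_) ?_ (fun A B hA hB => hA.inf hB) F i hi
  · exact (hV j).preimage_of_isOpenImmersion U.ι (by rw [Scheme.Opens.opensRange_ι]; exact hVU j)
  · rw [eq_top_iff]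
    intro x _
    have hx : U.ι x ∈ (U : Set X) := x.2
    rw [hU] at hx
    by_contra hcon
    refine hx ((mem_support_iff ι G _).2 fun j hj => hcon ?_)
    exact Opens.mem_iSup.2 ⟨j, hj⟩

section

variable [IsAlgClosed k] [X.Over (Spec (CommRingCat.of k))] [IsProper (X ↘ (Spec (CommRingCat.of k)))]
  [AlgebraicGeometry.IsIntegral X] [IsAffineHom ι]
  (hreg : ∀ x : X, IsRegularLocalRing (X.presheaf.stalk x)) {n : ℕ} (hdim : topologicalKrullDim X = n)
  (hr : r + 2 ≤ n) (ha : ∀ j, 1 ≤ a j)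

include hreg hdim hr ha

theorem lefCond : Lef.LefCond X ((ciIdeal G).comap ι) := by
  have hS := ((ciIdeal G).comap ι).support.isClosed
  let U : X.Opens := ⟨(((ciIdeal G).comap ι).support : Set X)ᶜ, hS.isOpen_compl⟩
  exact K184.CdLef.lefCond_of_vanishing k X hreg (tw ι ((1 : ℕ) : ℤ)) (isAmple_tw ι le_rfl) n hdim _ U rfl
    fun F hF i hi => vanish ι G (X ↘ (Spec (CommRingCat.of k))) ha U rfl F hF.1 i (by omega)

theorem homToFormalBijective (D : X.Modules) (hD : Coh.IsCoh D) :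
    Lef.HomToFormalBijective ((ciIdeal G).comap ι) D := by
  have hS := ((ciIdeal G).comap ι).support.isClosed
  let U : X.Opens := ⟨(((ciIdeal G).comap ι).support : Set X)ᶜ, hS.isOpen_compl⟩
  have hln : IsLocallyNoetherian X := LocallyOfFiniteType.isLocallyNoetherian (X ↘ (Spec (CommRingCat.of k)))
  have hinv := isInverseOf_tw ι ((1 : ℕ) : ℤ)
  exact Sga2.LefAmple389.bijective_of_isCoh hinv (isAmple_tw ι le_rfl)
    (fun n' => K184.CdLef.homToFormalBijective_of_vanishing k X hreg n hdim _ U rfl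
      (fun F hF i hi => vanish ι G (X ↘ (Spec (CommRingCat.of k))) ha U rfl F hF.1 i (by omega)) _
      (isInvertible_tensorPow (Dix.IdealModCartier.isInvertible_of_isInverseOf hinv).2 n')) hD

end

end K575.LefCI
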