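import Groth.Prelude.Def_CAlgX
import Mathlib.RingTheory.MvPolynomial.Homogeneous
import Mathlib.Data.Finsupp.Weight

set_option autoImplicit false

/-!
# Monomials of degree `n` in `r` variables and quasi-regular sequences

* `Mn r n`, `mon f d`, `lt d`, `pr d` with `mon f d = f (lt d) * mon f (pr d)`.
* `mem_pow_smul_iff`: elements of `(f)^n N` are the sums `∑ mon f d • g d`.
* `qr_mem`: quasi-regularity in terms of families indexed by `Mn r n`.
-/

namespace K575.Mon

/-- Monomials of degree `n` in `r` variables. -/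
abbrev Mn (r n : ℕ) : Type := {d : Fin r →₀ ℕ // d.degree = n}

instance (r n : ℕ) : Finite (Mn r n) := (Finsupp.finite_of_degree_eq (σ := Fin r) n).to_subtype

noncomputable instance (r n : ℕ) : Fintype (Mn r n) := Fintype.ofFinite _

variable {r : ℕ}

theorem exists_letter {n : ℕ} (d : Mn r (n + 1)) : ∃ i, d.1 i ≠ 0 := by
  by_contra h
  push Not at h
  have h1 : d.1 = 0 := Finsupp.ext h
  have h2 := d.2
  rw [h1, map_zero] at h2
  omega

/-- A variable dividing the monomial. -/
noncomputable def lt {n : ℕ} (d : Mn r (n + 1)) : Fin r := (exists_letter d).choose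

theorem lt_spec {n : ℕ} (d : Mn r (n + 1)) : d.1 (lt d) ≠ 0 := (exists_letter d).choose_spec

theorem single_le {n : ℕ} (d : Mn r (n + 1)) : Finsupp.single (lt d) 1 ≤ d.1 := by
  rw [Finsupp.single_le_iff]
  exact Nat.one_le_iff_ne_zero.2 (lt_spec d)

/-- The quotient of the monomial by the chosen variable. -/
noncomputable def pr {n : ℕ} (d : Mn r (n + 1)) : Mn r n :=
  ⟨d.1 - Finsupp.single (lt d) 1, by
    have h1 : (d.1 - Finsupp.single (lt d) 1) + Finsupp.single (lt d) 1 = d.1 :=
      tsub_add_cancel_of_le (single_le d)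
    have h2 := congrArg Finsupp.degree h1
    rw [map_add, Finsupp.degree_single, d.2] at h2
    exact Nat.add_right_cancel h2⟩

theorem pr_add {n : ℕ} (d : Mn r (n + 1)) : (pr d).1 + Finsupp.single (lt d) 1 = d.1 :=
  tsub_add_cancel_of_le (single_le d)

/-- Multiplication of a monomial by a variable. -/
noncomputable def up {n : ℕ} (i : Fin r) (d : Mn r n) : Mn r (n + 1) :=
  ⟨Finsupp.single i 1 + d.1, by rw [map_add, Finsupp.degree_single, d.2, add_comm]⟩

variable {R : Type*} [CommRing R] (f : Fin r → R)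

/-- The value of a monomial. -/
def mon (d : Fin r →₀ ℕ) : R := ∏ i, f i ^ d i

theorem mon_zero : mon f 0 = 1 := by
  simp [mon]

theorem mon_add (d d' : Fin r →₀ ℕ) : mon f (d + d') = mon f d * mon f d' := by
  rw [mon, mon, mon, ← Finset.prod_mul_distrib]
  exact Finset.prod_congr rfl fun i _ => by rw [Finsupp.add_apply, pow_add]

theorem mon_single (i : Fin r) : mon f (Finsupp.single i 1) = f i := by
  classical
  rw [mon, Finset.prod_eq_single i]
  · rw [Finsupp.single_eq_same, pow_one]
  · intro j _ hj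
    rw [Finsupp.single_eq_of_ne hj, pow_zero]
  · intro h
    exact absurd (Finset.mem_univ i) h

theorem mon_eq {n : ℕ} (d : Mn r (n + 1)) : mon f d.1 = f (lt d) * mon f (pr d).1 := by
  conv_lhs => rw [← pr_add d]
  rw [mon_add, mon_single, mul_comm]

theorem mon_up {n : ℕ} (i : Fin r) (d : Mn r n) : mon f (up i d).1 = f i * mon f d.1 := by
  rw [up, mon_add, mon_single]

theorem mon_mem (n : ℕ) (d : Mn r n) : mon f d.1 ∈ Ideal.span (Set.range f) ^ n := by
  induction n with
  | zero => rw [pow_zero, Ideal.one_eq_top]; trivial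
  | succ n ih =>
    rw [mon_eq, pow_succ']
    exact Ideal.mul_mem_mul (Ideal.subset_span ⟨_, rfl⟩) (ih _)

theorem pow_eq_span (n : ℕ) :
    Ideal.span (Set.range f) ^ n = Ideal.span (Set.range fun d : Mn r n => mon f d.1) := by
  apply le_antisymm
  · induction n with
    | zero =>
      rw [pow_zero]
      intro x _
      have h1 : (1 : R) ∈ Ideal.span (Set.range fun d : Mn r 0 => mon f d.1) :=
        Ideal.subset_span ⟨⟨0, by rw [map_zero]⟩, mon_zero f⟩
      rw [(Ideal.eq_top_iff_one _).2 h1]
      trivial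
    | succ n ih =>
      rw [pow_succ']
      refine (Ideal.mul_mono_right ih).trans ?_
      rw [Ideal.span_mul_span', Ideal.span_le]
      rintro _ ⟨_, ⟨i, rfl⟩, _, ⟨d, rfl⟩, rfl⟩
      exact Ideal.subset_span ⟨up i d, mon_up f i d⟩
  · rw [Ideal.span_le]
    rintro _ ⟨d, rfl⟩
    exact mon_mem f n d

theorem mem_span_smul_iff {κ : Type*} [Fintype κ] (m : κ → R) {N : Type*} [AddCommGroup N] [Module R N] (x : N) :
    x ∈ Ideal.span (Set.range m) • (⊤ : Submodule R N) ↔ ∃ g : κ → N, x = ∑ k, m k • g k := by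
  constructor
  · intro hx
    refine Submodule.smul_induction_on (p := fun x => ∃ g : κ → N, x = ∑ k, m k • g k) hx ?_ ?_
    · intro a ha y _
      obtain ⟨c, rfl⟩ := Ideal.mem_span_range_iff_exists_fun.1 ha
      refine ⟨fun k => c k • y, ?_⟩
      rw [Finset.sum_smul]
      exact Finset.sum_congr rfl fun k _ => by rw [mul_smul, smul_comm]
    · rintro x y ⟨g, rfl⟩ ⟨g', rfl⟩
      refine ⟨fun k => g k + g' k, ?_⟩
      rw [← Finset.sum_add_distrib]
      exact Finset.sum_congr rfl fun k _ => (smul_add _ _ _).symm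
  · rintro ⟨g, rfl⟩
    exact Submodule.sum_mem _ fun k _ =>
      Submodule.smul_mem_smul (Ideal.subset_span ⟨k, rfl⟩) Submodule.mem_top

theorem mem_pow_smul_iff (n : ℕ) {N : Type*} [AddCommGroup N] [Module R N] (x : N) :
    x ∈ Ideal.span (Set.range f) ^ n • (⊤ : Submodule R N) ↔ ∃ g : Mn r n → N, x = ∑ d, mon f d.1 • g d := by
  rw [pow_eq_span, mem_span_smul_iff]

/-- Quasi-regularity for families indexed by monomials. -/
theorem qr_mem {R : Type*} [CommRing R] {f : Fin r → R} (hf : CAlgX.IsQuasiRegular f) (n : ℕ)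
    (a : Mn r n → R) (h : ∑ d, mon f d.1 * a d ∈ Ideal.span (Set.range f) ^ (n + 1)) (d : Mn r n) :
    a d ∈ Ideal.span (Set.range f) := by
  classical
  let P : MvPolynomial (Fin r) R := ∑ d : Mn r n, MvPolynomial.monomial d.1 (a d)
  have h1 : P.IsHomogeneous n := by
    refine MvPolynomial.IsHomogeneous.sum _ _ _ fun d _ => ?_
    exact MvPolynomial.isHomogeneous_monomial _ d.2
  have h2 : MvPolynomial.eval f P = ∑ d, mon f d.1 * a d := by
    rw [map_sum]
    refine Finset.sum_congr rfl fun d _ => ?_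
    rw [MvPolynomial.eval_monomial, Finsupp.prod_fintype _ _ (by simp), mul_comm]
    rfl
  have h3 : P.coeff d.1 = a d := by
    rw [MvPolynomial.coeff_sum, Finset.sum_eq_single d]
    · rw [MvPolynomial.coeff_monomial, if_pos rfl]
    · intro d' _ hd'
      rw [MvPolynomial.coeff_monomial, if_neg fun h => hd' (Subtype.ext h)]
    · intro h
      exact absurd (Finset.mem_univ _) h
  rw [← h3]
  exact hf n P h1 (by rw [h2]; exact h) d.1

end K575.Mon
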