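import Groth.Agent.LefX.K575.QSys
import Groth.Agent.Sga2lef.H83.Ker

/-!
# Kernels of epimorphisms of quasi-regular systems are quasi-regular systems
-/

set_option autoImplicit false
universe u

open CategoryTheory CategoryTheory.Limits AlgebraicGeometry Opposite TopologicalSpace

namespace K575.QKer

open Groth.Agent Groth.Agent.Fdesc.LocGen Groth.Agent.FormalB.KQuot Groth.Agent.FormalB.TrKQuot
  Groth.Agent.FormalB.HHLin Groth.Agent.Sga2lef.H83.Frame Groth.Agent.Sga2lef.H83.Sys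
  K575.Mon K575.QFrame K575.QSys

open Groth.Agent.Sga2lef.H83.Ker (πK πK_ι πK_app φ_app exists_kernel_ι app_kernel_ι kernel_ι_injective
  kφ kι kφ_ι kι_ι kι_kφ)

variable {X : Scheme.{u}} {𝓘 : X.IdealSheafData} {L : X.Modules} {r : ℕ}
  {σ : Fin r → (Coh.structureModule X ⟶ L)}
  {G B : ℕ → X.Modules} {π : ∀ n, G (n + 1) ⟶ G n} {πB : ∀ n, B (n + 1) ⟶ B n}
  (hG : IsQRSys 𝓘 σ G π) (hB : IsQRSys 𝓘 σ B πB) (φ : ∀ n, B n ⟶ G n)
  (hφ : ∀ n, φ (n + 1) ≫ π n = πB n ≫ φ n) (hepi : ∀ n, Epi (φ n))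

include hφ in
theorem φ_toZero (n : ℕ) : φ n ≫ toZero π n = toZero πB n ≫ φ 0 := by
  induction n with
  | zero => exact (Category.comp_id _).trans (Category.id_comp _).symm
  | succ n ih =>
    change φ (n + 1) ≫ π n ≫ toZero π n = (πB n ≫ toZero πB n) ≫ φ 0
    rw [← Category.assoc, hφ, Category.assoc, ih, Category.assoc]

theorem πK_toZero (n : ℕ) :
    toZero (G := fun n => kernel (φ n)) (πK φ hφ) n ≫ kernel.ι (φ 0) = kernel.ι (φ n) ≫ toZero πB n := by
  induction n with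
  | zero => exact (Category.id_comp _).trans (Category.comp_id _).symm
  | succ n ih =>
    change (πK φ hφ n ≫ toZero (G := fun n => kernel (φ n)) (πK φ hφ) n) ≫ kernel.ι (φ 0) = kernel.ι (φ (n + 1)) ≫ πB n ≫ toZero πB n
    rw [Category.assoc, ih, ← Category.assoc, πK_ι, Category.assoc]

include hG hB hepi in
theorem φ_app_surjective (n : ℕ) (V : X.affineOpens) : Function.Surjective ((φ n).app V.1) := by
  have := hepi n
  have h1 : (B n).IsQuasicoherent := (hB.coh n).1
  have h2 : (G n).IsQuasicoherent := (hG.coh n).1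
  exact FormalB.QcSect.surjective_app_of_epi (φ n) V.2

include hG hB hepi in
/-- Over a frame, an element of `ker (φ n)` lifts to `ker (φ (n+1))`. -/
theorem πK_app_surjective (n : ℕ) {V : X.affineOpens} {e : Γ(L, V.1)} {f : Fin r → Γ(X, V.1)}
    (h : IsMFrame 𝓘 σ V e f) : Function.Surjective ((πK φ hφ n).app V.1) := by
  intro k
  obtain ⟨b', hb'⟩ := hB.app_surjective n V ((kernel.ι (φ n)).app V.1 k)
  have h1 : (π n).app V.1 ((φ (n + 1)).app V.1 b') = 0 := by
    rw [φ_app φ hφ, hb', app_kernel_ι]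
  obtain ⟨g', hg'⟩ := (hG.app_eq_zero_iff h n _).1 h1
  choose b'' hb'' using fun d => φ_app_surjective hG hB φ hepi (n + 1) V (g' d)
  obtain ⟨k', hk'⟩ := exists_kernel_ι (φ (n + 1)) V.1 (b' - ∑ d, mon f d.1 • b'' d) (by
    rw [map_sub, map_sum, hg', sub_eq_zero]
    exact Finset.sum_congr rfl fun d _ => by rw [Scheme.Modules.Hom.app_smul, hb''])
  refine ⟨k', kernel_ι_injective (φ n) V.1 ?_⟩
  rw [πK_app, hk', map_sub, hb', map_sum, Finset.sum_eq_zero, sub_zero]
  intro d _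
  rw [Scheme.Modules.Hom.app_smul, hB.mon_smul_eq_zero h]

include hG hB hepi in
theorem isQRSys_kernel [IsLocallyNoetherian X] (hσ : HasMFrame 𝓘 σ) :
    IsQRSys 𝓘 σ (fun n => kernel (φ n)) (πK φ hφ) where
  coh n := PerfA.CohSerre.isCoh_kernel (φ n) (hB.coh n) (hG.coh n).1
  kq n := by
    refine isKQuot_of_frame hσ _ ?_ (killedByIdeal_of_mono (kernel.ι (φ n)) (hB.killed n)) ?_
    · exact epi_of_frame hσ _ fun V e f hf => πK_app_surjective hG hB φ hφ hepi n hf
    · intro V e f hf k hk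
      have h1 : (πB n).app V.1 ((kernel.ι (φ (n + 1))).app V.1 k) = 0 := by
        rw [← πK_app φ hφ, hk, map_zero]
      obtain ⟨b', hb'⟩ := (hB.app_eq_zero_iff hf n _).1 h1
      have h2 : ∑ d, mon f d.1 • (φ (n + 1)).app V.1 (b' d) = 0 := by
        have h3 : (φ (n + 1)).app V.1 (∑ d, mon f d.1 • b' d) = 0 := by rw [← hb', app_kernel_ι]
        rw [map_sum] at h3
        refine Eq.trans (Finset.sum_congr rfl fun d _ => ?_) h3
        rw [Scheme.Modules.Hom.app_smul]
      have h3 : ∀ d, ∃ g' : Fin r → Γ(G (n + 1), V.1), (φ (n + 1)).app V.1 (b' d) = ∑ j, f j • g' j :=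
        fun d => (hG.toZero_app_eq_zero_iff hf (n + 1) _).1 (hG.qr (n + 1) V e f hf _ h2 d)
      choose g' hg' using h3
      choose b'' hb'' using fun d j => φ_app_surjective hG hB φ hepi (n + 1) V (g' d j)
      have h4 : ∀ d, ∃ k' : Γ(kernel (φ (n + 1)), V.1), (kernel.ι (φ (n + 1))).app V.1 k' =
          b' d - ∑ j, f j • b'' d j := fun d => exists_kernel_ι (φ (n + 1)) V.1 _ (by
        rw [map_sub, map_sum, hg' d, sub_eq_zero]
        exact Finset.sum_congr rfl fun j _ => by rw [Scheme.Modules.Hom.app_smul, hb''])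
      choose k' hk' using h4
      rw [hf.mem_pow_smul_iff]
      refine ⟨k', kernel_ι_injective (φ (n + 1)) V.1 ?_⟩
      rw [map_sum, hb']
      refine Finset.sum_congr rfl fun d _ => ?_
      rw [Scheme.Modules.Hom.app_smul, hk', smul_sub, Finset.smul_sum, Finset.sum_eq_zero, sub_zero]
      intro j _
      rw [← mul_smul, mul_comm, ← mon_up]
      exact hB.mon_smul_eq_zero hf (n + 1) (up j d) _
  qr n V e f hf g hg d := by
    have h1 : ∑ d, mon f d.1 • (kernel.ι (φ n)).app V.1 (g d) = 0 := by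
      have h2 := congrArg ((kernel.ι (φ n)).app V.1) hg
      rw [map_sum, map_zero] at h2
      refine Eq.trans (Finset.sum_congr rfl fun d _ => ?_) h2
      rw [Scheme.Modules.Hom.app_smul]
    have h2 := hB.qr n V e f hf _ h1 d
    apply kernel_ι_injective (φ 0) V.1
    rw [map_zero]
    exact (congr(($(πK_toZero φ hφ n)).app V.1 (g d))).trans h2

/-! ### The kernels of the transition maps -/

include hG hB hepi in
theorem shortExact_ker (hσ : HasMFrame 𝓘 σ) (n : ℕ) :
    (ShortComplex.mk (kι φ hφ n) (kφ φ hφ n) (kι_kφ φ hφ n)).ShortExact := by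
  have e1 : ∀ (V : X.Opens) (k : Γ(kernel (πK φ hφ n), V)), (kernel.ι (πB n)).app V ((kι φ hφ n).app V k) =
      (kernel.ι (φ (n + 1))).app V ((kernel.ι (πK φ hφ n)).app V k) := fun V k =>
    congr(($(kι_ι φ hφ n)).app V k)
  have e2 : ∀ (V : X.Opens) (k : Γ(kernel (πB n), V)), (kernel.ι (π n)).app V ((kφ φ hφ n).app V k) =
      (φ (n + 1)).app V ((kernel.ι (πB n)).app V k) := fun V k => congr(($(kφ_ι φ hφ n)).app V k)
  refine VarietyB.ExactLoc.shortExact_of_local _ ?_ ?_ ?_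
  · intro U s hs
    apply kernel_ι_injective (πK φ hφ n) U
    apply kernel_ι_injective (φ (n + 1)) U
    rw [← e1]
    have hs' : (kι φ hφ n).app U s = 0 := hs
    rw [hs', map_zero, map_zero, map_zero]
  · intro U s hs x hx
    refine ⟨U, le_rfl, hx, ?_⟩
    have hs' : (kφ φ hφ n).app U s = 0 := hs
    have h1 : (φ (n + 1)).app U ((kernel.ι (πB n)).app U s) = 0 := by
      rw [← e2, hs', map_zero]
    obtain ⟨k, hk⟩ := exists_kernel_ι (φ (n + 1)) U _ h1
    obtain ⟨k', hk'⟩ := exists_kernel_ι (πK φ hφ n) U k (by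
      apply kernel_ι_injective (φ n) U
      rw [πK_app, hk, app_kernel_ι, map_zero])
    refine ⟨k', ?_⟩
    apply kernel_ι_injective (πB n) U
    refine (e1 U k').trans ?_
    rw [hk', hk]
    exact congrArg _ (res_refl _ _).symm
  · intro U s x hx
    obtain ⟨V, e, f, hxV, hV, hf⟩ := hσ U x hx
    refine ⟨V.1, hV, hxV, ?_⟩
    obtain ⟨g', hg'⟩ := (hG.app_eq_zero_iff hf n _).1 (app_kernel_ι (π n) V.1 (res (kernel (π n)) hV s))
    choose b' hb' using fun d => φ_app_surjective hG hB φ hepi (n + 1) V (g' d)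
    obtain ⟨k, hk⟩ := exists_kernel_ι (πB n) V.1 (∑ d, mon f d.1 • b' d)
      ((hB.app_eq_zero_iff hf n _).2 ⟨b', rfl⟩)
    refine ⟨k, ?_⟩
    apply kernel_ι_injective (π n) V.1
    refine (e2 V.1 k).trans ?_
    rw [hk, map_sum]
    refine Eq.trans (Finset.sum_congr rfl fun d _ => ?_) hg'.symm
    rw [Scheme.Modules.Hom.app_smul, hb']

include hG hB hepi in
/-- Vanishing of `H^1 (ker (πK n))`. -/
theorem van_kernel (hσ : HasMFrame 𝓘 σ) (n : ℕ) (h0 : Subsingleton (Coh.HH X (K π (n + 1)) 0))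
    (h1 : Subsingleton (Coh.HH X (K πB (n + 1)) 1)) : Subsingleton (Coh.HH X (K (G := fun n => kernel (φ n)) (πK φ hφ) (n + 1)) 1) := by
  have hS := shortExact_ker hG hB φ hφ hepi hσ n
  have h0' : Subsingleton (Coh.HH X (kernel (π n)) 0) := h0
  have h1' : Subsingleton (Coh.HH X (kernel (πB n)) 1) := h1
  refine ⟨fun a b => ?_⟩
  have key : ∀ c : Coh.HH X (kernel (πK φ hφ n)) 1, c = 0 := by
    intro c
    obtain ⟨y, hy⟩ := exact₁ hS 0 c (Subsingleton.elim (α := Coh.HH X (kernel (πB n)) 1) _ _)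
    have hy0 : y = 0 := Subsingleton.elim (α := Coh.HH X (kernel (π n)) 0) _ _
    rw [← hy, hy0]
    exact map_zero _
  exact (key a).trans (key b).symm

end K575.QKer
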