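import Groth.Agent.LefX.K575.QLiftA

/-!
# Lifting sections of `G 0 ⊗ L^a` to all levels, for large `a`
-/

set_option autoImplicit false
universe u

open CategoryTheory CategoryTheory.Limits AlgebraicGeometry Opposite TopologicalSpace

namespace K575.QLift

open Groth.Agent Groth.Agent.Fdesc.LocGen Groth.Agent.FormalB.KQuot Groth.Agent.FormalB.TrKQuot
  Groth.Agent.FormalB.HHLin Groth.Agent.Sga2lef.H83.Frame
  Groth.Agent.Sga2lef.H83.Sys Groth.Agent.Sga2lef.H83.Twist K575.Mon K575.QFrame K575.QSys K575.QMon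

variable {X : Scheme.{u}} {L : X.Modules} {r : ℕ}
  {𝓘 : X.IdealSheafData} {σ : Fin r → (Coh.structureModule X ⟶ L)} {G : ℕ → X.Modules}
  {π : ∀ n, G (n + 1) ⟶ G n}

variable (hG : IsQRSys 𝓘 σ G π) (hσ : HasMFrame 𝓘 σ) (hL : PicF.IsInvertible L)

variable (A : Type u) [CommRing A] [X.Over (Spec (CommRingCat.of A))]

theorem gen_aux {P : X.Modules} (hLP : ClSub.IsInverseOf L P) (n m : ℕ)
    (y : Coh.HH X ((Tpow L m).obj ((DCoh.tensorRightMod L).obj (K π (n + 1)))) 1) :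
    ∃ z : Fin r → Coh.HH X ((Tpow L m).obj (K π n)) 1,
      y = ∑ᶠ i, hmap A ((Tpow L m).map (QSys.k hG hσ hL i n)) 1 (z i) := by
  obtain ⟨s, hs⟩ := exists_split hG hσ hL hLP n
  have h3 := (preservesLim hL m).2.2
  refine ⟨fun i => hm ((Tpow L m).map (s i)) 1 y, ?_⟩
  rw [finsum_eq_sum_of_fintype]
  have h1 : hm ((Tpow L m).map (∑ i, s i ≫ QSys.k hG hσ hL i n)) 1 y = y := by
    rw [hs, CategoryTheory.Functor.map_id]
    exact hm_id _ 1 y
  refine h1.symm.trans ?_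
  rw [Functor.map_sum, hm_sum]
  exact Finset.sum_congr rfl fun i _ => (hm_map_comp m 1 (s i) (QSys.k hG hσ hL i n) y).symm

end K575.QLift
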