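import Groth.Agent.LefX.K575.QLiftB
import Groth.Agent.LefX.K575.QLiftC

/-!
# Lifting sections of `G 0 ⊗ L^a` to all levels, for large `a`
-/

set_option autoImplicit false
universe u

open CategoryTheory CategoryTheory.Limits AlgebraicGeometry Opposite TopologicalSpace

namespace K575.QLift

open Groth.Agent Groth.Agent.Fdesc.LocGen Groth.Agent.FormalB.KQuot Groth.Agent.FormalB.TrKQuot
  Groth.Agent.FormalB.HHLin Groth.Agent.Sga2lef.H83.Frame
  Groth.Agent.Sga2lef.H83.Sys Groth.Agent.Sga2lef.H83.Twist K575.Mon K575.QFrame K575.QSys K575.QMon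

variable {X : Scheme.{u}} {L : X.Modules} {r : ℕ}
  {𝓘 : X.IdealSheafData} {σ : Fin r → (Coh.structureModule X ⟶ L)} {G : ℕ → X.Modules}
  {π : ∀ n, G (n + 1) ⟶ G n}

variable (hG : IsQRSys 𝓘 σ G π) (hσ : HasMFrame 𝓘 σ) (hL : PicF.IsInvertible L)

/-- The bigraded tower. -/
noncomputable def tower {P : X.Modules} (hLP : ClSub.IsInverseOf L P) [IsLocallyNoetherian X]
    (A : Type u) [CommRing A] [X.Over (Spec (CommRingCat.of A))]
    (hfin : ∀ M : X.Modules, Coh.IsCoh M → ∀ p, Module.Finite A (Coh.HH X M p))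
    (hser : ∀ M : X.Modules, Coh.IsCoh M → ∃ a₀ : ℕ, ∀ a, a₀ ≤ a → Subsingleton (Coh.HH X ((Tpow L a).obj M) 1))
    (c : ℕ) (hc : ∀ n, c ≤ n → Subsingleton (Coh.HH X (K π n) 1)) :
    LTower.BiTower A (Fin r) (fun n m => Coh.HH X ((Tpow L m).obj (G n)) 0)
      (fun n m => Coh.HH X ((Tpow L m).obj (K π n)) 1) c where
  π n m := hmap A ((Tpow L m).map (π n)) 0
  μ j n m := hmap A ((Tpow L m).map (QSys.t hG hσ j n)) 0
  ν j n m := hmap A ((Tpow L m).map (QSys.k hG hσ hL j n)) 1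
  δ n m := hδ A (shortExact_TKS' hG hL n m) 0
  πμ0 j m x := πμ0_aux hG hσ A hL j m x
  πμ j n m x := πμ_aux hG hσ A j n m x
  ν_comm i j n m x := ν_comm_aux hG hσ hL A i j n m x
  δμ j n m x :=
    (hd_naturality (shortExact_TKS' hG hL n m) (shortExact_TKS' hG hL (n + 1) (m + 1))
      (TKSmap hG hσ hL j n m) 0 x).symm
  ex n m x hx := exact₃ (shortExact_TKS' hG hL n m) 0 x hx
  finQ n m := hfin _ (isCoh_Tpow hL m (hG.coh_K n)) 1
  zeroQ n := hser _ (hG.coh_K n)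
  genQ0 n hn := hc (n + 1) (by omega)
  genQ n m _ y := gen_aux hG hσ hL A hLP n m y

end K575.QLift
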