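import Groth.Agent.LefX.K575.QLiftD
import Groth.Agent.LefX.K575.QLiftE

/-!
# Lifting sections of `G 0 ⊗ L^a` to all levels, for large `a`
-/

set_option autoImplicit false
universe u

open CategoryTheory CategoryTheory.Limits AlgebraicGeometry Opposite TopologicalSpace

namespace K575.QLift

open Groth.Agent Groth.Agent.Fdesc.LocGen Groth.Agent.FormalB.KQuot Groth.Agent.FormalB.TrKQuot
  Groth.Agent.FormalB.HHLin Groth.Agent.Sga2lef.H83.Frame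
  Groth.Agent.Sga2lef.H83.Sys Groth.Agent.Sga2lef.H83.Twist K575.Mon K575.QFrame K575.QSys K575.QMon

variable {X : Scheme.{u}} {L : X.Modules} {r : ℕ}
  {𝓘 : X.IdealSheafData} {σ : Fin r → (Coh.structureModule X ⟶ L)} {G : ℕ → X.Modules}
  {π : ∀ n, G (n + 1) ⟶ G n}

variable (hG : IsQRSys 𝓘 σ G π) (hσ : HasMFrame 𝓘 σ) (hL : PicF.IsInvertible L)

include hG hσ hL in
/-- **Lifting sections.** -/
theorem exists_lift {P : X.Modules} (hLP : ClSub.IsInverseOf L P) [IsLocallyNoetherian X]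
    (A : Type u) [CommRing A] [IsNoetherianRing A] [X.Over (Spec (CommRingCat.of A))]
    (hfin : ∀ M : X.Modules, Coh.IsCoh M → ∀ p, Module.Finite A (Coh.HH X M p))
    (hser : ∀ M : X.Modules, Coh.IsCoh M → ∃ a₀ : ℕ, ∀ a, a₀ ≤ a → Subsingleton (Coh.HH X ((Tpow L a).obj M) 1))
    (hvan : ∃ c : ℕ, ∀ n, c ≤ n → Subsingleton (Coh.HH X (K π n) 1)) :
    ∃ a₁ : ℕ, ∀ a, a₁ ≤ a → ∀ s : Coh.HH X ((Tpow L a).obj (G 0)) 0,
      ∃ t : ∀ n, Coh.HH X ((Tpow L a).obj (G n)) 0, t 0 = s ∧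
        ∀ n, hm ((Tpow L a).map (π n)) 0 (t (n + 1)) = t n := by
  obtain ⟨c, hc⟩ := hvan
  obtain ⟨n₁, h⟩ := (tower hG hσ hL hLP A hfin hser c hc).exists_lift
  obtain ⟨a₁, ha₁⟩ := hser (kernel (toZero π n₁))
    (PerfA.CohSerre.isCoh_kernel (toZero π n₁) (hG.coh n₁) (hG.coh 0).1)
  refine ⟨a₁, fun a ha s => ?_⟩
  have h1 := ha₁ a ha
  obtain ⟨s', hs'⟩ := exact₃ (shortExact_Tpow hL a (shortExact_toZero hG n₁)) 0 s
    (Subsingleton.elim (α := Coh.HH X ((Tpow L a).obj (kernel (toZero π n₁))) 1) _ _)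
  obtain ⟨z, hz, hz'⟩ := Sga2lef.H100.GrTower.exists_comp
    (P := fun n => Coh.HH X ((Tpow L a).obj (G n)) 0) (A := A)
    (fun n => hmap A ((Tpow L a).map (π n)) 0) n₁ s'
  obtain ⟨w, hw, hw'⟩ := h a n₁ z hz
  refine ⟨w, ?_, hw⟩
  rw [hw' 0 (by omega), ← toZero_comp a n₁ z hz, hz']
  exact hs'

end K575.QLift
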