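import Groth.Agent.LefX.K575.QMon
import Groth.Agent.LefX.K575.LTower

/-!
# Lifting sections of `G 0 ⊗ L^a` to all levels, for large `a`
-/

set_option autoImplicit false
universe u

open CategoryTheory CategoryTheory.Limits AlgebraicGeometry Opposite TopologicalSpace

namespace K575.QLift

open Groth.Agent Groth.Agent.Fdesc.LocGen Groth.Agent.FormalB.KQuot Groth.Agent.FormalB.TrKQuot
  Groth.Agent.FormalB.HHLin Groth.Agent.Sga2lef.H83.Frame
  Groth.Agent.Sga2lef.H83.Sys Groth.Agent.Sga2lef.H83.Twist K575.Mon K575.QFrame K575.QSys K575.QMon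

variable {X : Scheme.{u}} {L : X.Modules} {r : ℕ}
  {𝓘 : X.IdealSheafData} {σ : Fin r → (Coh.structureModule X ⟶ L)} {G : ℕ → X.Modules}
  {π : ∀ n, G (n + 1) ⟶ G n}

theorem hm_T_comp (m p : ℕ) {M N N' : X.Modules} (φ : M ⟶ (DCoh.tensorRightMod L).obj N) (ψ : N ⟶ N')
    (x : Coh.HH X ((Tpow L m).obj M) p) :
    hm ((Tpow L (m + 1)).map ψ) p (hm ((Tpow L m).map φ) p x) =
      hm ((Tpow L m).map (φ ≫ (DCoh.tensorRightMod L).map ψ)) p x :=
  (hm_comp ((Tpow L m).map φ) ((Tpow L (m + 1)).map ψ) p x).symm.trans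
    (congrArg (fun χ => hm χ p x) ((Tpow L m).map_comp φ ((DCoh.tensorRightMod L).map ψ)).symm)

theorem hm_map_comp (m p : ℕ) {M N N' : X.Modules} (φ : M ⟶ N) (ψ : N ⟶ N')
    (x : Coh.HH X ((Tpow L m).obj M) p) :
    hm ((Tpow L m).map ψ) p (hm ((Tpow L m).map φ) p x) = hm ((Tpow L m).map (φ ≫ ψ)) p x :=
  (hm_comp ((Tpow L m).map φ) ((Tpow L m).map ψ) p x).symm.trans
    (congrArg (fun χ => hm χ p x) ((Tpow L m).map_comp φ ψ).symm)

theorem hm_map_zero (hL : PicF.IsInvertible L) (m p : ℕ) {M N : X.Modules} (x : Coh.HH X ((Tpow L m).obj M) p) :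
    hm ((Tpow L m).map (0 : M ⟶ N)) p x = 0 := by
  have := (preservesLim hL m).2.2
  rw [Functor.map_zero]
  exact hm_zero p x

/-- The twist of the sequence `0 → K (n+1) → G (n+1) → G n → 0`. -/
noncomputable def TKS (hL : PicF.IsInvertible L) (π : ∀ n, G (n + 1) ⟶ G n) (n m : ℕ) : ShortComplex X.Modules :=
  haveI := (preservesLim hL m).2.2
  (KS π n).map (Tpow L m)

variable (hG : IsQRSys 𝓘 σ G π) (hσ : HasMFrame 𝓘 σ) (hL : PicF.IsInvertible L)

include hG in
theorem shortExact_TKS' (n m : ℕ) : (TKS hL π n m).ShortExact := shortExact_Tpow hL m (shortExact_KS hG n)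

/-- The morphism of twisted sequences given by `σ j`. -/
noncomputable def TKSmap (j : Fin r) (n m : ℕ) : TKS hL π n m ⟶ TKS hL π (n + 1) (m + 1) :=
  haveI := (preservesLim hL m).2.2
  (Tpow L m).mapShortComplex.map (KSmap hG hσ hL j n)

end K575.QLift
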