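import Groth.Agent.LefX.K575.QLiftA

/-!
# Lifting sections of `G 0 ⊗ L^a` to all levels, for large `a`
-/

set_option autoImplicit false
universe u

open CategoryTheory CategoryTheory.Limits AlgebraicGeometry Opposite TopologicalSpace

namespace K575.QLift

open Groth.Agent Groth.Agent.Fdesc.LocGen Groth.Agent.FormalB.KQuot Groth.Agent.FormalB.TrKQuot
  Groth.Agent.FormalB.HHLin Groth.Agent.Sga2lef.H83.Frame
  Groth.Agent.Sga2lef.H83.Sys Groth.Agent.Sga2lef.H83.Twist K575.Mon K575.QFrame K575.QSys K575.QMon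

variable {X : Scheme.{u}} {L : X.Modules} {r : ℕ}
  {𝓘 : X.IdealSheafData} {σ : Fin r → (Coh.structureModule X ⟶ L)} {G : ℕ → X.Modules}
  {π : ∀ n, G (n + 1) ⟶ G n}

variable (hG : IsQRSys 𝓘 σ G π) (hσ : HasMFrame 𝓘 σ) (hL : PicF.IsInvertible L)

variable (A : Type u) [CommRing A] [X.Over (Spec (CommRingCat.of A))]

theorem πμ0_aux (hL : PicF.IsInvertible L) (j : Fin r) (m : ℕ) (x : Coh.HH X ((Tpow L m).obj (G 0)) 0) :
    hmap A ((Tpow L (m + 1)).map (π 0)) 0 (hmap A ((Tpow L m).map (QSys.t hG hσ j 0)) 0 x) = 0 := by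
  refine (hm_T_comp m 0 (QSys.t hG hσ j 0) (π 0) x).trans ?_
  rw [QSys.t_zero]
  exact hm_map_zero hL m 0 x

theorem πμ_aux (j : Fin r) (n m : ℕ) (x : Coh.HH X ((Tpow L m).obj (G (n + 1))) 0) :
    hmap A ((Tpow L (m + 1)).map (π (n + 1))) 0 (hmap A ((Tpow L m).map (QSys.t hG hσ j (n + 1))) 0 x) =
      hmap A ((Tpow L m).map (QSys.t hG hσ j n)) 0 (hmap A ((Tpow L m).map (π n)) 0 x) := by
  refine (hm_T_comp m 0 (QSys.t hG hσ j (n + 1)) (π (n + 1)) x).trans ?_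
  rw [QSys.t_map_π]
  exact (hm_map_comp m 0 (π n) (QSys.t hG hσ j n) x).symm

theorem ν_comm_aux (i j : Fin r) (n m : ℕ) (x : Coh.HH X ((Tpow L m).obj (K π n)) 1) :
    hmap A ((Tpow L (m + 1)).map (QSys.k hG hσ hL i (n + 1))) 1 (hmap A ((Tpow L m).map (QSys.k hG hσ hL j n)) 1 x) =
      hmap A ((Tpow L (m + 1)).map (QSys.k hG hσ hL j (n + 1))) 1
        (hmap A ((Tpow L m).map (QSys.k hG hσ hL i n)) 1 x) := by
  refine (hm_T_comp m 1 (QSys.k hG hσ hL j n) (QSys.k hG hσ hL i (n + 1)) x).trans ?_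
  rw [QSys.k_comm]
  exact (hm_T_comp m 1 (QSys.k hG hσ hL i n) (QSys.k hG hσ hL j (n + 1)) x).symm

end K575.QLift
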