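import Groth.Agent.LefX.K575.QLiftA

/-!
# Lifting sections of `G 0 ⊗ L^a` to all levels, for large `a`
-/

set_option autoImplicit false
universe u

open CategoryTheory CategoryTheory.Limits AlgebraicGeometry Opposite TopologicalSpace

namespace K575.QLift

open Groth.Agent Groth.Agent.Fdesc.LocGen Groth.Agent.FormalB.KQuot Groth.Agent.FormalB.TrKQuot
  Groth.Agent.FormalB.HHLin Groth.Agent.Sga2lef.H83.Frame
  Groth.Agent.Sga2lef.H83.Sys Groth.Agent.Sga2lef.H83.Twist K575.Mon K575.QFrame K575.QSys K575.QMon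

variable {X : Scheme.{u}} {L : X.Modules} {r : ℕ}
  {𝓘 : X.IdealSheafData} {σ : Fin r → (Coh.structureModule X ⟶ L)} {G : ℕ → X.Modules}
  {π : ∀ n, G (n + 1) ⟶ G n}

variable (hG : IsQRSys 𝓘 σ G π) (hσ : HasMFrame 𝓘 σ) (hL : PicF.IsInvertible L)

theorem toZero_comp (m n : ℕ) (z : ∀ n, Coh.HH X ((Tpow L m).obj (G n)) 0)
    (hz : ∀ k, k < n → hm ((Tpow L m).map (π k)) 0 (z (k + 1)) = z k) :
    hm ((Tpow L m).map (toZero π n)) 0 (z n) = z 0 := by
  induction n with
  | zero =>
    change hm ((Tpow L m).map (𝟙 (G 0))) 0 (z 0) = z 0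
    rw [CategoryTheory.Functor.map_id]
    exact hm_id _ 0 _
  | succ n ih =>
    change hm ((Tpow L m).map (π n ≫ toZero π n)) 0 (z (n + 1)) = z 0
    rw [← hm_map_comp, hz n (Nat.lt_succ_self n)]
    exact ih fun k hk => hz k (by omega)

include hG in
theorem shortExact_toZero (n : ℕ) :
    (ShortComplex.mk (kernel.ι (toZero π n)) (toZero π n) (kernel.condition _)).ShortExact where
  exact := ShortComplex.exact_of_f_is_kernel _ (kernelIsKernel _)
  mono_f := inferInstanceAs (Mono (kernel.ι (toZero π n)))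
  epi_g := hG.epi_toZero n

end K575.QLift
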