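import Groth.Agent.LefX.K575.QSys
import Groth.Agent.Sga2lef.H83.Alg

/-!
# The kernels `K n` are direct sums of twists of `G 0`

* `wM n d : G 0 ⟶ T^n (K n)`, multiplication by the monomial `d` in the sections `σ`.
* `isIso_Psi`: `⨁ G 0 ⟶ T^n (K n)` is an isomorphism.
* `exists_split`: maps `s i : T (K (n+1)) ⟶ K n` with `∑ s i ≫ k i n = 𝟙`.
* `van_K`: vanishing of `H^i (K n)` for large `n`.
-/

set_option autoImplicit false
universe u

open CategoryTheory CategoryTheory.Limits AlgebraicGeometry Opposite TopologicalSpace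

attribute [local instance] CategoryTheory.Abelian.hasFiniteBiproducts

namespace K575.QMon

open Groth.Agent Groth.Agent.Fdesc.LocGen Groth.Agent.Dix.IdealModCartier Groth.Agent.PerfB.TensExact
  Groth.Agent.FormalB.KQuot Groth.Agent.FormalB.TrKQuot Groth.Agent.FormalB.HHLin Groth.Agent.Sga2lef.H83.Frame
  Groth.Agent.Sga2lef.H83.Sys Groth.Agent.Sga2lef.H83.Twist K575.Mon K575.QFrame K575.QSys

variable {X : Scheme.{u}} {L : X.Modules} {r : ℕ}

/-! ### Tensoring with powers of the generator -/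

section tm

variable {V : X.Opens} (e : Γ(L, V))

/-- `g ↦ g ⊗ e ⊗ ⋯ ⊗ e`. -/
noncomputable def tm : ∀ (n : ℕ) {G : X.Modules}, Γ(G, V) → Γ((Tpow L n).obj G, V)
  | 0, _, g => g
  | n + 1, _, g => tm n (tmul g e)

theorem tm_succ (n : ℕ) {G : X.Modules} (g : Γ(G, V)) :
    tm e (n + 1) g = tm e n (G := (DCoh.tensorRightMod L).obj G) (tmul g e) := rfl

theorem tm_zero' (n : ℕ) : ∀ {G : X.Modules}, tm e n (0 : Γ(G, V)) = 0 := by
  induction n with
  | zero => exact fun {G} => rfl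
  | succ n ih =>
    intro G
    rw [tm_succ, Ega2.TensGen.zero_tmul]
    exact ih

theorem tm_add (n : ℕ) : ∀ {G : X.Modules} (g g' : Γ(G, V)), tm e n (g + g') = tm e n g + tm e n g' := by
  induction n with
  | zero => exact fun {G} _ _ => rfl
  | succ n ih =>
    intro G g g'
    have h1 : tmul (g + g') e = tmul g e + tmul g' e := Ega2.Tens.add_tmul g g' e
    rw [tm_succ, h1]
    exact ih _ _

theorem tm_sum (n : ℕ) {G : X.Modules} {κ : Type*} (s : Finset κ) (g : κ → Γ(G, V)) :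
    tm e n (∑ i ∈ s, g i) = ∑ i ∈ s, tm e n (g i) := by
  classical
  induction s using Finset.induction_on with
  | empty => rw [Finset.sum_empty, Finset.sum_empty, tm_zero']
  | insert a s ha ih => rw [Finset.sum_insert ha, Finset.sum_insert ha, tm_add, ih]

variable {e}

theorem tm_eq_zero (he : IsGen e) (n : ℕ) : ∀ {G : X.Modules} {g : Γ(G, V)}, tm e n g = 0 → g = 0 := by
  induction n with
  | zero => exact fun {G g} h => h
  | succ n ih =>
    intro G g h
    exact Ega2.TensGen.tmul_gen_eq_zero he (ih h)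

theorem exists_tm (he : IsGen e) (n : ℕ) : ∀ {G : X.Modules} (s : Γ((Tpow L n).obj G, V)),
    ∃ g : Γ(G, V), s = tm e n g := by
  induction n with
  | zero => exact fun {G} s => ⟨s, rfl⟩
  | succ n ih =>
    intro G s
    obtain ⟨s', hs'⟩ := ih (G := (DCoh.tensorRightMod L).obj G) s
    obtain ⟨g, hg⟩ := Ega2.TensGen.exists_eq_tmul (F := G) he s'
    refine ⟨g, ?_⟩
    rw [hs', hg]
    rfl

end tm

theorem map_tm {V : X.affineOpens} (e : Γ(L, V.1)) (n : ℕ) : ∀ {G G' : X.Modules} (φ : G ⟶ G') (g : Γ(G, V.1)),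
    ((Tpow L n).map φ).app V.1 (tm e n g) = tm e n (φ.app V.1 g) := by
  induction n with
  | zero => exact fun {G G'} φ g => rfl
  | succ n ih =>
    intro G G' φ g
    have h1 := ih ((DCoh.tensorRightMod L).map φ) (tmul g e)
    rw [Sga2lef.H83.Frame.map_tmul] at h1
    exact h1

/-! ### The maps given by monomials -/

section W

variable {𝓘 : X.IdealSheafData} {σ : Fin r → (Coh.structureModule X ⟶ L)} {G : ℕ → X.Modules}
  {π : ∀ n, G (n + 1) ⟶ G n} (hG : IsQRSys 𝓘 σ G π) (hσ : HasMFrame 𝓘 σ) (hL : PicF.IsInvertible L)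

/-- Multiplication by a monomial. -/
noncomputable def wM : ∀ (n : ℕ), Mn r n → (G 0 ⟶ (Tpow L n).obj (K π n))
  | 0, _ => 𝟙 (G 0)
  | n + 1, d => wM n (pr d) ≫ (Tpow L n).map (k hG hσ hL (lt d) n)

theorem wM_succ (n : ℕ) (d : Mn r (n + 1)) :
    wM hG hσ hL (n + 1) d = wM hG hσ hL n (pr d) ≫ (Tpow L n).map (k hG hσ hL (lt d) n) := rfl

theorem wM_app (n : ℕ) (d : Mn r n) {V : X.affineOpens} {e : Γ(L, V.1)} {f : Fin r → Γ(X, V.1)}
    (h : IsMFrame 𝓘 σ V e f) (g : Γ(G n, V.1)) :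
    ∃ y : Γ(K π n, V.1), (Kι π n).app V.1 y = mon f d.1 • g ∧
      (wM hG hσ hL n d).app V.1 ((toZero π n).app V.1 g) = tm e n y := by
  induction n with
  | zero =>
    refine ⟨g, ?_, rfl⟩
    have h1 : d.1 = 0 := by
      rw [← Finsupp.degree_eq_zero_iff]
      exact d.2
    rw [h1, mon_zero, one_smul]
    rfl
  | succ n ih =>
    obtain ⟨y, hy, hy'⟩ := ih (pr d) ((π n).app V.1 g)
    obtain ⟨y', h1, h2⟩ := k_app hG hσ hL (lt d) n h y (mon f (pr d).1 • g)
      (by rw [Scheme.Modules.Hom.app_smul, hy])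
    refine ⟨y', ?_, ?_⟩
    · rw [h1, mon_eq, mul_smul]
    · change ((Tpow L n).map (k hG hσ hL (lt d) n)).app V.1 ((wM hG hσ hL n (pr d)).app V.1
        ((toZero π n).app V.1 ((π n).app V.1 g))) = _
      rw [hy', map_tm, h2]
      rfl

/-- The index sum. -/
noncomputable abbrev S0 (G : ℕ → X.Modules) (r n : ℕ) : X.Modules := ⨁ fun _ : Mn r n => G 0

/-- The map from the direct sum. -/
noncomputable def Psi (n : ℕ) : S0 G r n ⟶ (Tpow L n).obj (K π n) := biproduct.desc (wM hG hσ hL n)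

theorem sec_total (n : ℕ) (V : X.Opens) (x : Γ(S0 G r n, V)) :
    x = ∑ d, (biproduct.ι (fun _ : Mn r n => G 0) d).app V ((biproduct.π (fun _ : Mn r n => G 0) d).app V x) := by
  have h1 := congr(($(biproduct.total (f := fun _ : Mn r n => G 0))).app V x)
  have h2 : ∀ (s : Finset (Mn r n)) (φ : Mn r n → (S0 G r n ⟶ S0 G r n)),
      (∑ d ∈ s, φ d).app V x = ∑ d ∈ s, (φ d).app V x := by
    classical
    intro s φ
    induction s using Finset.induction_on with
    | empty => rfl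
    | insert a s ha ih =>
      rw [Finset.sum_insert ha, Finset.sum_insert ha, ← ih]
      rfl
  rw [h2] at h1
  exact h1.symm

theorem ι_Psi (n : ℕ) (d : Mn r n) : biproduct.ι (fun _ : Mn r n => G 0) d ≫ Psi hG hσ hL n = wM hG hσ hL n d :=
  biproduct.ι_desc _ _

include hG hσ hL in
theorem isIso_Psi (n : ℕ) : IsIso (Psi hG hσ hL n) := by
  have key : ∀ {V : X.affineOpens} {e : Γ(L, V.1)} {f : Fin r → Γ(X, V.1)} (_ : IsMFrame 𝓘 σ V e f)
      (x : Γ(S0 G r n, V.1)), ∃ (g : Mn r n → Γ(G n, V.1)) (y : Γ(K π n, V.1)),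
      (∀ d, (toZero π n).app V.1 (g d) = (biproduct.π (fun _ : Mn r n => G 0) d).app V.1 x) ∧
      (Kι π n).app V.1 y = ∑ d, mon f d.1 • g d ∧ (Psi hG hσ hL n).app V.1 x = tm e n y := by
    intro V e f hf x
    choose g hg using fun d => hG.app_toZero_surjective n V ((biproduct.π (fun _ : Mn r n => G 0) d).app V.1 x)
    choose y hy hy' using fun d => wM_app hG hσ hL n d hf (g d)
    refine ⟨g, ∑ d, y d, hg, ?_, ?_⟩
    · rw [map_sum]
      exact Finset.sum_congr rfl fun d _ => hy d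
    · rw [tm_sum]
      conv_lhs => rw [sec_total n V.1 x]
      rw [map_sum]
      refine Finset.sum_congr rfl fun d _ => ?_
      rw [← hy' d, hg d, ← ι_Psi hG hσ hL n d]
      rfl
  have h1 : Mono (Psi hG hσ hL n) := by
    refine mono_of_frame hσ _ fun V e f hf x hx => ?_
    obtain ⟨g, y, h1, h2, h3⟩ := key hf x
    have h4 : y = 0 := tm_eq_zero hf.gen n (h3.symm.trans hx)
    rw [h4, map_zero] at h2
    have h5 := hG.qr n V e f hf g h2.symm
    rw [sec_total n V.1 x]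
    refine Finset.sum_eq_zero fun d _ => ?_
    rw [← h1 d, h5 d, map_zero]
  have h2 : Epi (Psi hG hσ hL n) := by
    refine epi_of_frame hσ _ fun V e f hf z => ?_
    obtain ⟨y, rfl⟩ := exists_tm hf.gen n z
    obtain ⟨g, hg⟩ := hG.K_repr hf n y
    refine ⟨∑ d, (biproduct.ι (fun _ : Mn r n => G 0) d).app V.1 ((toZero π n).app V.1 (g d)), ?_⟩
    choose y' hy hy' using fun d => wM_app hG hσ hL n d hf (g d)
    have h3 : y = ∑ d, y' d := by
      apply injective_app_of_mono (Kι π n) V.1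
      rw [map_sum, hg]
      exact Finset.sum_congr rfl fun d _ => (hy d).symm
    rw [map_sum, h3, tm_sum]
    refine Finset.sum_congr rfl fun d _ => ?_
    rw [← hy' d, ← ι_Psi hG hσ hL n d]
    rfl
  exact isIso_of_mono_of_epi _

/-- **Splitting.** -/
theorem exists_split {P : X.Modules} (hLP : ClSub.IsInverseOf L P) (n : ℕ) :
    ∃ s : Fin r → ((DCoh.tensorRightMod L).obj (K π (n + 1)) ⟶ K π n),
      ∑ i, s i ≫ k hG hσ hL i n = 𝟙 _ := by
  classical
  have h1 := Sga2lef.H83.Pres.isEquivalence_Tpow hLP n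
  have h3 := (preservesLim hL n).2.2
  let Ψ : S0 G r (n + 1) ⟶ (Tpow L n).obj ((DCoh.tensorRightMod L).obj (K π (n + 1))) := Psi hG hσ hL (n + 1)
  have h2 : IsIso Ψ := isIso_Psi hG hσ hL (n + 1)
  have hΨ : ∀ d : Mn r (n + 1), biproduct.ι (fun _ : Mn r (n + 1) => G 0) d ≫ Ψ =
      wM hG hσ hL n (pr d) ≫ (Tpow L n).map (k hG hσ hL (lt d) n) := fun d => ι_Psi hG hσ hL (n + 1) d
  let a : Fin r → (S0 G r (n + 1) ⟶ (Tpow L n).obj (K π n)) := fun i =>
    biproduct.desc fun d : Mn r (n + 1) => if lt d = i then wM hG hσ hL n (pr d) else 0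
  have hb : inv Ψ ≫ Ψ = 𝟙 _ := IsIso.inv_hom_id Ψ
  have ha : ∑ i, a i ≫ (Tpow L n).map (k hG hσ hL i n) = Ψ := by
    refine biproduct.hom_ext' _ _ fun d => ?_
    rw [hΨ, Preadditive.comp_sum, Finset.sum_eq_single (lt d)]
    · rw [biproduct.ι_desc_assoc, if_pos rfl]
    · intro i _ hi
      rw [biproduct.ι_desc_assoc, if_neg (Ne.symm hi), zero_comp]
    · intro h
      exact absurd (Finset.mem_univ _) h
  refine ⟨fun i => (Tpow L n).preimage (inv Ψ ≫ a i), ?_⟩
  apply (Tpow L n).map_injective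
  have h5 : inv Ψ ≫ ∑ i, a i ≫ (Tpow L n).map (k hG hσ hL i n) = 𝟙 _ := by
    rw [ha]
    exact hb
  rw [Functor.map_sum, CategoryTheory.Functor.map_id, ← h5, Preadditive.comp_sum]
  refine Finset.sum_congr rfl fun i _ => ?_
  rw [Functor.map_comp, Functor.map_preimage, Category.assoc]

/-- Vanishing of the cohomology of a direct sum. -/
theorem subsingleton_HH_biproduct (Φ : X.Modules ⥤ X.Modules) [Φ.Additive] {κ : Type} [Fintype κ] (M : X.Modules)
    (p : ℕ) (h : Subsingleton (Coh.HH X (Φ.obj M) p)) :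
    Subsingleton (Coh.HH X (Φ.obj (⨁ fun _ : κ => M)) p) := by
  refine subsingleton_of_forall_eq 0 fun x => ?_
  have h1 := hm_id _ p x
  rw [← Φ.map_id, ← biproduct.total, Functor.map_sum, hm_sum] at h1
  rw [← h1]
  apply Finset.sum_eq_zero
  intro i _
  rw [Functor.map_comp, hm_comp]
  have h2 : hm (Φ.map (biproduct.π (fun _ : κ => M) i)) p x = 0 :=
    Subsingleton.elim (α := Coh.HH X (Φ.obj M) p) _ _
  rw [h2]
  exact map_zero _

include hG hσ hL in
theorem van_K {P : X.Modules} (hLP : ClSub.IsInverseOf L P) (h : Sga2lef.H83.Alg.Van P (G 0)) :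
    ∃ c : ℕ, ∀ n, c ≤ n → ∀ i ≤ 1, Subsingleton (Coh.HH X (K π n) i) := by
  obtain ⟨m₀, h⟩ := h
  refine ⟨m₀, fun n hn i hi => ?_⟩
  have h1 := isIso_Psi hG hσ hL n
  obtain ⟨e⟩ := Sga2lef.H83.BSys.nonempty_iso_of_Tpow hLP (asIso (Psi hG hσ hL n)).symm
  refine Sga2.ThickCoh.subsingleton_HH_of_iso e.symm i ?_
  exact subsingleton_HH_biproduct (DCoh.tensorRightMod (CohB1.tensorPow P n)) (G 0) i (h n hn i hi)

end W

end K575.QMon
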