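import Groth.Agent.LefX.K575.QFrame
import Groth.Agent.PerfA.CohSerre
import Groth.Agent.Sga67.IdealTorsion

/-!
# Systems of modules along a closed subscheme defined by a quasi-regular family of sections of a line bundle

`IsQRSys 𝓘 σ G π`: coherent modules `G n`, `π n : G (n+1) ⟶ G n` is the quotient by `𝓘^(n+1)`, and over frames
`∑ mon f d • g d = 0` in `G n` (sum over the monomials of degree `n`) implies that `g d` dies in `G 0`.

* `K π n`: `G 0` for `n = 0`, the kernel of `G n ⟶ G (n-1)` otherwise.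
* `t j n : G n ⟶ G (n+1) ⊗ L`, `k j n : K n ⟶ K (n+1) ⊗ L`: multiplication by the section `σ j`.
-/

set_option autoImplicit false
universe u

open CategoryTheory CategoryTheory.Limits AlgebraicGeometry Opposite TopologicalSpace

namespace K575.QSys

open Groth.Agent Groth.Agent.Fdesc.LocGen Groth.Agent.Dix.IdealModCartier Groth.Agent.PerfB.TensExact
  Groth.Agent.FormalB.KQuot Groth.Agent.FormalB.TrKQuot Groth.Agent.Sga2lef.H83.Frame
  Groth.Agent.Sga2lef.H83.Sys K575.Mon K575.QFrame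

variable {X : Scheme.{u}} {L : X.Modules} {r : ℕ}

/-- A coherent `𝓘`-adic system whose associated graded is free over the polynomials in the equations. -/
structure IsQRSys (𝓘 : X.IdealSheafData) (σ : Fin r → (Coh.structureModule X ⟶ L)) (G : ℕ → X.Modules)
    (π : ∀ n, G (n + 1) ⟶ G n) : Prop where
  coh : ∀ n, Coh.IsCoh (G n)
  kq : ∀ n, IsKQuot (𝓘 ^ (n + 1)) (π n)
  qr : ∀ (n : ℕ) (V : X.affineOpens) (e : Γ(L, V.1)) (f : Fin r → Γ(X, V.1)), IsMFrame 𝓘 σ V e f →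
    ∀ g : Mn r n → Γ(G n, V.1), ∑ d, mon f d.1 • g d = 0 → ∀ d, (toZero π n).app V.1 (g d) = 0

/-- The kernels of the transition maps. -/
noncomputable def K {G : ℕ → X.Modules} (π : ∀ n, G (n + 1) ⟶ G n) : ℕ → X.Modules
  | 0 => G 0
  | n + 1 => kernel (π n)

/-- The inclusion of the kernels. -/
noncomputable def Kι {G : ℕ → X.Modules} (π : ∀ n, G (n + 1) ⟶ G n) : ∀ n, K π n ⟶ G n
  | 0 => 𝟙 _
  | n + 1 => kernel.ι (π n)

instance {G : ℕ → X.Modules} (π : ∀ n, G (n + 1) ⟶ G n) (n : ℕ) : Mono (Kι π n) := by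
  cases n with
  | zero => exact inferInstanceAs (Mono (𝟙 _))
  | succ n => exact inferInstanceAs (Mono (kernel.ι (π n)))

theorem Kι_π {G : ℕ → X.Modules} (π : ∀ n, G (n + 1) ⟶ G n) (n : ℕ) : Kι π (n + 1) ≫ π n = 0 :=
  kernel.condition (π n)

namespace IsQRSys

variable {𝓘 : X.IdealSheafData} {σ : Fin r → (Coh.structureModule X ⟶ L)} {G : ℕ → X.Modules}
  {π : ∀ n, G (n + 1) ⟶ G n} (hG : IsQRSys 𝓘 σ G π)
include hG

theorem killed (n : ℕ) : ClSub.KilledByIdeal (𝓘 ^ (n + 1)) (G n) := (hG.kq n).killed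

theorem killed_zero : ClSub.KilledByIdeal 𝓘 (G 0) := by
  have := hG.killed 0
  rwa [zero_add, pow_one] at this

theorem kq_toZero (n : ℕ) : IsKQuot 𝓘 (toZero π n) := by
  induction n with
  | zero => exact IsKQuot.id hG.killed_zero
  | succ n ih => exact Sga2lef.H83.Sys.IsKQuot.comp (pow_le_self 𝓘 n) (hG.kq n) ih

theorem epi (n : ℕ) : Epi (π n) := (hG.kq n).epi

theorem epi_toZero (n : ℕ) : Epi (toZero π n) := (hG.kq_toZero n).epi

theorem app_surjective (n : ℕ) (V : X.affineOpens) : Function.Surjective ((π n).app V.1) :=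
  IsKQuot.app_surjective (hG.kq n) (hG.coh (n + 1)).1 V.2

theorem app_toZero_surjective (n : ℕ) (V : X.affineOpens) : Function.Surjective ((toZero π n).app V.1) :=
  IsKQuot.app_surjective (hG.kq_toZero n) (hG.coh n).1 V.2

theorem coh_K (n : ℕ) [IsLocallyNoetherian X] : Coh.IsCoh (K π n) := by
  cases n with
  | zero => exact hG.coh 0
  | succ n => exact PerfA.CohSerre.isCoh_kernel (π n) (hG.coh (n + 1)) (hG.coh n).1

variable {V : X.affineOpens} {e : Γ(L, V.1)} {f : Fin r → Γ(X, V.1)} (h : IsMFrame 𝓘 σ V e f)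
include h

theorem app_eq_zero_iff (n : ℕ) (g : Γ(G (n + 1), V.1)) :
    (π n).app V.1 g = 0 ↔ ∃ g' : Mn r (n + 1) → Γ(G (n + 1), V.1), g = ∑ d, mon f d.1 • g' d := by
  rw [IsKQuot.app_eq_zero_iff (hG.kq n) (hG.coh (n + 1)).1, h.mem_pow_smul_iff]

theorem toZero_app_eq_zero_iff (n : ℕ) (g : Γ(G n, V.1)) :
    (toZero π n).app V.1 g = 0 ↔ ∃ g' : Fin r → Γ(G n, V.1), g = ∑ j, f j • g' j := by
  rw [IsKQuot.app_eq_zero_iff (hG.kq_toZero n) (hG.coh n).1, h.mem_smul_iff]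

theorem mon_smul_eq_zero (n : ℕ) (d : Mn r (n + 1)) (g : Γ(G n, V.1)) : mon f d.1 • g = 0 :=
  hG.killed n V _ (h.mon_mem d) g

theorem smul_eq_zero (n : ℕ) (j : Fin r) {g : Γ(G (n + 1), V.1)} (hg : (π n).app V.1 g = 0) : f j • g = 0 := by
  obtain ⟨g', rfl⟩ := (hG.app_eq_zero_iff h n g).1 hg
  rw [Finset.smul_sum]
  refine Finset.sum_eq_zero fun d _ => ?_
  rw [← mul_smul, ← mon_up]
  exact hG.mon_smul_eq_zero h (n + 1) (up j d) (g' d)

theorem exists_K (n : ℕ) (g : Mn r n → Γ(G n, V.1)) : ∃ y : Γ(K π n, V.1), (Kι π n).app V.1 y = ∑ d, mon f d.1 • g d := by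
  cases n with
  | zero => exact ⟨∑ d, mon f d.1 • g d, rfl⟩
  | succ n => exact Sga67.IdealTorsion.exists_kernel_ι (π n) V.1 _ ((hG.app_eq_zero_iff h n _).2 ⟨g, rfl⟩)

theorem K_repr (n : ℕ) (y : Γ(K π n, V.1)) : ∃ g : Mn r n → Γ(G n, V.1), (Kι π n).app V.1 y = ∑ d, mon f d.1 • g d := by
  cases n with
  | zero =>
    have h1 := (Mon.mem_pow_smul_iff f 0 ((Kι π 0).app V.1 y)).1 (by
      rw [pow_zero, Ideal.one_eq_top, Submodule.top_smul]
      exact Submodule.mem_top)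
    exact h1
  | succ n => exact (hG.app_eq_zero_iff h n _).1 (Sga67.IdealTorsion.app_kernel_ι (π n) V.1 y)

theorem smul_K (n : ℕ) (j : Fin r) (y : Γ(K π n, V.1)) : f j • (Kι π n).app V.1 y = 0 := by
  obtain ⟨g, hg⟩ := hG.K_repr h n y
  rw [hg, Finset.smul_sum]
  refine Finset.sum_eq_zero fun d _ => ?_
  rw [← mul_smul, ← mon_up]
  exact hG.mon_smul_eq_zero h n (up j d) (g d)

end IsQRSys

/-! ### The maps `t j n` -/

section T

variable {𝓘 : X.IdealSheafData} {σ : Fin r → (Coh.structureModule X ⟶ L)} {G : ℕ → X.Modules}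
  {π : ∀ n, G (n + 1) ⟶ G n} (hG : IsQRSys 𝓘 σ G π) (hσ : HasMFrame 𝓘 σ)

include hG hσ in
theorem kernel_π_sMul (j : Fin r) (n : ℕ) : kernel.ι (π n) ≫ (sMul (σ j)).app (G (n + 1)) = 0 := by
  apply hom_eq_zero_of_frame hσ
  intro V e f hf m
  change ((sMul (σ j)).app (G (n + 1))).app V.1 ((kernel.ι (π n)).app V.1 m) = 0
  rw [hf.sMul_app, hG.smul_eq_zero hf n j]
  · exact Ega2.TensGen.zero_tmul e
  · exact congr(($(kernel.condition (π n))).app V.1 m)

/-- `t j n : G n ⟶ G (n+1) ⊗ L`, multiplication by the section `σ j`. -/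
noncomputable def t (j : Fin r) (n : ℕ) : G n ⟶ (DCoh.tensorRightMod L).obj (G (n + 1)) :=
  haveI := hG.epi n
  Abelian.epiDesc (π n) ((sMul (σ j)).app (G (n + 1))) (kernel_π_sMul hG hσ j n)

@[reassoc]
theorem π_t (j : Fin r) (n : ℕ) : π n ≫ t hG hσ j n = (sMul (σ j)).app (G (n + 1)) :=
  haveI := hG.epi n
  Abelian.comp_epiDesc (π n) ((sMul (σ j)).app (G (n + 1))) (kernel_π_sMul hG hσ j n)

theorem t_app (j : Fin r) (n : ℕ) {V : X.affineOpens} {e : Γ(L, V.1)} {f : Fin r → Γ(X, V.1)}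
    (h : IsMFrame 𝓘 σ V e f) (g : Γ(G (n + 1), V.1)) :
    (t hG hσ j n).app V.1 ((π n).app V.1 g) = tmul (f j • g) e := by
  rw [← h.sMul_app]
  exact congr(($(π_t hG hσ j n)).app V.1 g)

@[reassoc]
theorem t_map_π (j : Fin r) (n : ℕ) :
    t hG hσ j (n + 1) ≫ (DCoh.tensorRightMod L).map (π (n + 1)) = π n ≫ t hG hσ j n := by
  have := hG.epi (n + 1)
  rw [← cancel_epi (π (n + 1)), π_t_assoc, π_t]
  exact ((sMul (σ j)).naturality (π (n + 1))).symm

@[reassoc]
theorem t_map_π' (j : Fin r) (n : ℕ) :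
    t hG hσ j n ≫ (DCoh.tensorRightMod L).map (π n) = (sMul (σ j)).app (G n) := by
  have := hG.epi n
  rw [← cancel_epi (π n), π_t_assoc]
  exact ((sMul (σ j)).naturality (π n)).symm

include hG hσ in
theorem Kι_sMul (j : Fin r) (n : ℕ) : Kι π n ≫ (sMul (σ j)).app (G n) = 0 := by
  apply hom_eq_zero_of_frame hσ
  intro V e f hf m
  change ((sMul (σ j)).app (G n)).app V.1 ((Kι π n).app V.1 m) = 0
  rw [hf.sMul_app, hG.smul_K hf n j m]
  exact Ega2.TensGen.zero_tmul e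

theorem t_zero (j : Fin r) : t hG hσ j 0 ≫ (DCoh.tensorRightMod L).map (π 0) = 0 := by
  rw [t_map_π', ← Category.id_comp ((sMul (σ j)).app (G 0))]
  exact Kι_sMul hG hσ j 0

theorem Kι_t_π (j : Fin r) (n : ℕ) : (Kι π n ≫ t hG hσ j n) ≫ (DCoh.tensorRightMod L).map (π n) = 0 := by
  rw [Category.assoc, t_map_π', Kι_sMul hG hσ]

theorem t_comm (i j : Fin r) (n : ℕ) :
    t hG hσ i n ≫ (DCoh.tensorRightMod L).map (t hG hσ j (n + 1)) =
      t hG hσ j n ≫ (DCoh.tensorRightMod L).map (t hG hσ i (n + 1)) := by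
  apply hom_ext_of_frame hσ
  intro V e f hf m
  obtain ⟨m, rfl⟩ := hG.app_surjective n V m
  obtain ⟨m, rfl⟩ := hG.app_surjective (n + 1) V m
  change ((DCoh.tensorRightMod L).map (t hG hσ j (n + 1))).app V.1 ((t hG hσ i n).app V.1 _) =
    ((DCoh.tensorRightMod L).map (t hG hσ i (n + 1))).app V.1 ((t hG hσ j n).app V.1 _)
  rw [t_app hG hσ i n hf, t_app hG hσ j n hf, map_tmul, map_tmul, ← Scheme.Modules.Hom.app_smul,
    ← Scheme.Modules.Hom.app_smul, t_app hG hσ _ _ hf, t_app hG hσ _ _ hf, smul_smul, smul_smul, mul_comm]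

/-- `0 → K (n+1) → G (n+1) → G n → 0`. -/
noncomputable def KS {G : ℕ → X.Modules} (π : ∀ n, G (n + 1) ⟶ G n) (n : ℕ) : ShortComplex X.Modules :=
  ShortComplex.mk (Kι π (n + 1)) (π n) (Kι_π π n)

include hG in
theorem shortExact_KS (n : ℕ) : (KS π n).ShortExact where
  exact := ShortComplex.exact_of_f_is_kernel _ (kernelIsKernel (π n))
  mono_f := inferInstanceAs (Mono (kernel.ι (π n)))
  epi_g := hG.epi n

variable (hL : PicF.IsInvertible L)

include hG hL in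
theorem shortExact_TKS (n : ℕ) : ((KS π n).map (DCoh.tensorRightMod L)).ShortExact := by
  have := PerfB.TensInv.preservesFiniteLimits_of_isInvertible hL
  exact (shortExact_KS hG n).map_of_exact (DCoh.tensorRightMod L)

/-- `k j n : K n ⟶ K (n+1) ⊗ L`, multiplication by the section `σ j`. -/
noncomputable def k (j : Fin r) (n : ℕ) : K π n ⟶ (DCoh.tensorRightMod L).obj (K π (n + 1)) :=
  haveI := (shortExact_TKS hG hL n).mono_f
  (shortExact_TKS hG hL n).exact.lift (Kι π n ≫ t hG hσ j n) (Kι_t_π hG hσ j n)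

@[reassoc]
theorem k_ι (j : Fin r) (n : ℕ) :
    k hG hσ hL j n ≫ (DCoh.tensorRightMod L).map (Kι π (n + 1)) = Kι π n ≫ t hG hσ j n :=
  haveI := (shortExact_TKS hG hL n).mono_f
  (shortExact_TKS hG hL n).exact.lift_f (Kι π n ≫ t hG hσ j n) (Kι_t_π hG hσ j n)

include hG hL in
theorem mono_TKι (n : ℕ) : Mono ((DCoh.tensorRightMod L).map (Kι π (n + 1))) :=
  (shortExact_TKS hG hL n).mono_f

theorem k_comm (i j : Fin r) (n : ℕ) :
    k hG hσ hL i n ≫ (DCoh.tensorRightMod L).map (k hG hσ hL j (n + 1)) =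
      k hG hσ hL j n ≫ (DCoh.tensorRightMod L).map (k hG hσ hL i (n + 1)) := by
  have h1 := PerfB.TensInv.preservesFiniteLimits_of_isInvertible hL
  have h2 := mono_TKι hG hL (n + 1)
  have h3 : Mono ((DCoh.tensorRightMod L).map ((DCoh.tensorRightMod L).map (Kι π (n + 2)))) := inferInstance
  rw [← cancel_mono ((DCoh.tensorRightMod L).map ((DCoh.tensorRightMod L).map (Kι π (n + 2)))), Category.assoc,
    Category.assoc, ← Functor.map_comp, ← Functor.map_comp, k_ι, k_ι, Functor.map_comp, Functor.map_comp,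
    k_ι_assoc, k_ι_assoc, t_comm]

/-- Sections of `k j n` over frames. -/
theorem k_app (j : Fin r) (n : ℕ) {V : X.affineOpens} {e : Γ(L, V.1)} {f : Fin r → Γ(X, V.1)}
    (h : IsMFrame 𝓘 σ V e f) (y : Γ(K π n, V.1)) (g : Γ(G (n + 1), V.1))
    (hg : (π n).app V.1 g = (Kι π n).app V.1 y) :
    ∃ y' : Γ(K π (n + 1), V.1), (Kι π (n + 1)).app V.1 y' = f j • g ∧
      (k hG hσ hL j n).app V.1 y = tmul y' e := by
  obtain ⟨y', hy'⟩ := h.exists_eq_tmul ((k hG hσ hL j n).app V.1 y)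
  refine ⟨y', ?_, hy'⟩
  have h1 : ((DCoh.tensorRightMod L).map (Kι π (n + 1))).app V.1 ((k hG hσ hL j n).app V.1 y) =
      (t hG hσ j n).app V.1 ((Kι π n).app V.1 y) := congr(($(k_ι hG hσ hL j n)).app V.1 y)
  rw [hy', map_tmul, ← hg, t_app hG hσ j n h] at h1
  exact Ega2.TensGen.tmul_gen_injective h.gen h1

/-- The morphism of exact sequences given by `σ j`. -/
noncomputable def KSmap (j : Fin r) (n : ℕ) : KS π n ⟶ (KS π (n + 1)).map (DCoh.tensorRightMod L) where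
  τ₁ := k hG hσ hL j (n + 1)
  τ₂ := t hG hσ j (n + 1)
  τ₃ := t hG hσ j n
  comm₁₂ := k_ι hG hσ hL j (n + 1)
  comm₂₃ := t_map_π hG hσ j n

end T

end K575.QSys
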